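import Cfsg.Agent.H309.Ru.AbsA
import Cfsg.Agent.Lib.FrattiniPGroup

/-!
# S3204: large subgroups of `W` are nonabelian modulo proper subgroups of `Z` (helper309)
-/

set_option autoImplicit false

namespace Cfsg.Agent.H309.Ru

open Subgroup
open scoped commutatorElement

variable {P : Type*} [Group P] [Finite P]

theorem card_subgroupOf {A B : Subgroup P} (h : A ≤ B) : Nat.card (A.subgroupOf B) = Nat.card A :=
  Nat.card_congr (subgroupOfEquivOfLe h).toEquiv

/-- `|K N / N| |N| = |K|` for `N ≤ K`. -/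
theorem card_map_mk (N K : Subgroup P) [N.Normal] (h : N ≤ K) :
    Nat.card (K.map (QuotientGroup.mk' N)) * Nat.card N = Nat.card K := by
  have h1 := ((QuotientGroup.mk' N).comp K.subtype).ker.card_mul_index
  rw [index_ker] at h1
  have h2 : ((QuotientGroup.mk' N).comp K.subtype).ker = N.subgroupOf K := by
    ext x
    rw [MonoidHom.mem_ker, mem_subgroupOf]
    simp
  have h3 : ((QuotientGroup.mk' N).comp K.subtype).range = K.map (QuotientGroup.mk' N) := by
    rw [MonoidHom.range_comp, range_subtype]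
  rw [h2, card_subgroupOf h, h3] at h1
  rw [mul_comm]; exact h1

/-- An elementary abelian group: a subgroup missing a given subgroup of order 2, of index 2. -/
theorem exists_index_two {V : Type*} [Group V] [Finite V] (hcomm : ∀ a b : V, a * b = b * a)
    (hsq : ∀ a : V, a * a = 1) (F : Subgroup V) :
    ∃ K : Subgroup V, F ⊓ K = ⊥ ∧ Nat.card V ≤ Nat.card F * Nat.card K := by
  have : Fact (Nat.Prime 2) := ⟨Nat.prime_two⟩
  obtain ⟨K, hK⟩ := Cfsg.Agent.Lib.FrattiniPGroup.exists_isCompl_of_elementary (p := 2) hcomm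
    (fun a => by rw [sq]; exact hsq a) F
  refine ⟨K, hK.inf_eq_bot, ?_⟩
  have h1 := K.card_mul_index
  have hKn : K.Normal := ⟨fun k hk v => by rw [hcomm v k, mul_inv_cancel_right]; exact hk⟩
  have h2 : K.index ≤ Nat.card F := by
    have hsurj : Function.Surjective (fun f : F => (QuotientGroup.mk (f : V) : V ⧸ K)) := by
      intro q
      obtain ⟨v, rfl⟩ := QuotientGroup.mk_surjective q
      have hv : v ∈ F ⊔ K := by rw [hK.sup_eq_top]; trivial
      obtain ⟨f, hf, k, hk, rfl⟩ := Subgroup.mem_sup_of_normal_right.1 hv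
      refine ⟨⟨f, hf⟩, ?_⟩
      rw [QuotientGroup.eq]
      simpa using hk
    exact Nat.card_le_card_of_surjective _ hsurj
  rw [← h1, mul_comm]
  exact Nat.mul_le_mul_right _ h2

theorem lemC (hP : IsPGroup 2 P) (W Z : Subgroup P) (hZW : Z ≤ W)
    (cen : ∀ z ∈ Z, ∀ w ∈ W, w * z = z * w) (sqW : ∀ w ∈ W, w * w ∈ Z)
    (comW : ∀ w ∈ W, ∀ w' ∈ W, ⁅w, w'⁆ ∈ Z)
    (hd : ∀ U : Subgroup P, U ≤ W → Nat.card W ≤ 16 * Nat.card U → Z ≤ U)
    (U : Subgroup P) (hU : U ≤ W) (hcard : Nat.card W ≤ 4 * Nat.card U) (H : Subgroup P)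
    (hH : ∀ x ∈ U, ∀ y ∈ U, ⁅x, y⁆ ∈ H) : Z ≤ H := by
  classical
  have : Fact (Nat.Prime 2) := ⟨Nat.prime_two⟩
  by_contra hcon
  -- a maximal subgroup of Z containing Z ∩ H
  have hne : H.subgroupOf Z ≠ ⊤ := by
    intro h
    rw [subgroupOf_eq_top] at h
    exact hcon h
  obtain ⟨M, hM, hle⟩ := (eq_top_or_exists_le_coatom (H.subgroupOf Z)).resolve_left hne
  have hMidx : M.index = 2 := Cfsg.Agent.Lib.FrattiniPGroup.index_of_coatom (hP.to_subgroup Z) hM
  set H1 : Subgroup P := M.map Z.subtype with hH1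
  have hH1Z : H1 ≤ Z := map_subtype_le M
  have hmem1 : ∀ (z : P) (hz : z ∈ Z), z ∈ H1 ↔ (⟨z, hz⟩ : Z) ∈ M := by
    intro z hz
    constructor
    · rintro ⟨w, hw, hwz⟩
      have : w = ⟨z, hz⟩ := Subtype.ext hwz
      rw [← this]; exact hw
    · intro h; exact ⟨_, h, rfl⟩
  have hHH1 : ∀ z ∈ Z, z ∈ H → z ∈ H1 := by
    intro z hz hzH
    rw [hmem1 z hz]
    exact hle (mem_subgroupOf.2 hzH)
  have hcardH1 : Nat.card Z = 2 * Nat.card H1 := by
    have h1 := M.card_mul_index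
    rw [hMidx] at h1
    rw [hH1, Subgroup.card_map_of_injective Z.subtype_injective, ← h1, mul_comm]
  have hmul1 : ∀ a ∈ Z, ∀ b ∈ Z, (a * b ∈ H1 ↔ (a ∈ H1 ↔ b ∈ H1)) := by
    intro a ha b hb
    rw [hmem1 _ (mul_mem ha hb), hmem1 a ha, hmem1 b hb]
    exact mul_mem_iff_of_index_two hMidx (a := (⟨a, ha⟩ : Z)) (b := ⟨b, hb⟩)
  -- U1 = U Z
  set U1 : Subgroup P := U ⊔ Z with hU1
  have hU1W : U1 ≤ W := sup_le hU hZW
  have hcomU1 : ∀ x ∈ U1, ∀ y ∈ U1, ⁅x, y⁆ ∈ H1 := by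
    have hform : ∀ x ∈ U1, ∃ u ∈ U, ∃ z ∈ Z, x = u * z := by
      intro x hx
      have hZn : U ≤ normalizer (Z : Set P) := by
        intro u hu
        rw [mem_normalizer_iff]
        intro z
        constructor
        · intro hz
          rw [cen z hz u (hU hu)]; simpa using hz
        · intro hz
          have h1 := cen _ hz u (hU hu)
          have h2 : u * z * u⁻¹ = z := by
            have : u * (u * z * u⁻¹) = u * z := by rw [h1]; group
            exact mul_left_cancel this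
          rwa [h2] at hz
      have hx' : x ∈ ((U ⊔ Z : Subgroup P) : Set P) := hx
      rw [coe_mul_of_left_le_normalizer_right U Z hZn] at hx'
      obtain ⟨u, hu, z, hz, rfl⟩ := hx'
      exact ⟨u, hu, z, hz, rfl⟩
    intro x hx y hy
    obtain ⟨u, hu, z, hz, rfl⟩ := hform x hx
    obtain ⟨u', hu', z', hz', rfl⟩ := hform y hy
    have e : ⁅u * z, u' * z'⁆ = ⁅u, u'⁆ := by
      rw [commutatorElement_def, commutatorElement_def]
      have c1 := cen z hz u' (hU hu')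
      have c2 := cen z' hz' u⁻¹ (inv_mem (hU hu))
      have c3 := cen z' hz' z⁻¹ (inv_mem (hZW hz))
      have c4 := cen z hz u⁻¹ (inv_mem (hU hu))
      calc u * z * (u' * z') * (u * z)⁻¹ * (u' * z')⁻¹
          = u * (z * u') * z' * z⁻¹ * u⁻¹ * z'⁻¹ * u'⁻¹ := by group
        _ = u * (u' * z) * z' * z⁻¹ * u⁻¹ * z'⁻¹ * u'⁻¹ := by rw [c1]
        _ = u * u' * z * (z' * z⁻¹) * u⁻¹ * z'⁻¹ * u'⁻¹ := by group
        _ = u * u' * z * (z⁻¹ * z') * u⁻¹ * z'⁻¹ * u'⁻¹ := by rw [c3]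
        _ = u * u' * (z' * u⁻¹) * z'⁻¹ * u'⁻¹ := by group
        _ = u * u' * (u⁻¹ * z') * z'⁻¹ * u'⁻¹ := by rw [c2]
        _ = u * u' * u⁻¹ * u'⁻¹ := by group
    rw [e]
    exact hHH1 _ (comW u (hU hu) u' (hU hu')) (hH u hu u' hu')
  -- Ω
  let Ω : Subgroup P :=
    { carrier := {x | x ∈ U1 ∧ x * x ∈ H1}
      one_mem' := ⟨one_mem _, by rw [mul_one]; exact one_mem _⟩
      mul_mem' := by
        rintro x y ⟨hx, hx2⟩ ⟨hy, hy2⟩
        refine ⟨mul_mem hx hy, ?_⟩
        have : x * y * (x * y) = (x * x) * ⁅x⁻¹, y⁆ * (y * y) := by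
          rw [commutatorElement_def]; group
        rw [this]
        exact mul_mem (mul_mem hx2 (hcomU1 _ (inv_mem hx) _ hy)) hy2
      inv_mem' := by
        rintro x ⟨hx, hx2⟩
        refine ⟨inv_mem hx, ?_⟩
        rw [← mul_inv_rev]; exact inv_mem hx2 }
  have hΩ : ∀ x, x ∈ Ω ↔ x ∈ U1 ∧ x * x ∈ H1 := fun x => Iff.rfl
  have hZΩ : Z ≤ Ω := by
    intro z hz
    refine ⟨(le_sup_right : Z ≤ U ⊔ Z) hz, ?_⟩
    rw [hmul1 z hz z hz]
  have hΩU1 : Ω ≤ U1 := fun x hx => hx.1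
  have hcardΩ : Nat.card U1 ≤ 2 * Nat.card Ω := by
    by_cases hall : ∀ x ∈ U1, x ∈ Ω
    · have : U1 ≤ Ω := hall
      have h1 := Nat.le_of_dvd Nat.card_pos (card_dvd_of_le this)
      omega
    · push Not at hall
      obtain ⟨x, hx, hxΩ⟩ := hall
      have hidx : (Ω.subgroupOf U1).index = 2 := by
        rw [index_eq_two_iff_exists_notMem_and]
        refine ⟨⟨x, hx⟩, by rw [mem_subgroupOf]; exact hxΩ, ?_⟩
        rintro ⟨y, hy⟩
        by_cases hyΩ : y ∈ Ω
        · right; rw [mem_subgroupOf]; exact hyΩ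
        · left
          rw [mem_subgroupOf]
          show y * x ∈ Ω
          refine ⟨mul_mem hy hx, ?_⟩
          have hx2 : x * x ∉ H1 := fun h => hxΩ ⟨hx, h⟩
          have hy2 : y * y ∉ H1 := fun h => hyΩ ⟨hy, h⟩
          have : y * x * (y * x) = (y * y) * ⁅y⁻¹, x⁆ * (x * x) := by
            rw [commutatorElement_def]; group
          rw [this]
          have h3 := hcomU1 _ (inv_mem hy) _ hx
          have h4 : (y * y) * (⁅y⁻¹, x⁆ * (x * x)) ∈ H1 := by
            rw [hmul1 _ (sqW y (hU1W hy)) _ (mul_mem (hH1Z h3) (sqW x (hU1W hx))),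
              hmul1 _ (hH1Z h3) _ (sqW x (hU1W hx))]
            simp [hx2, hy2, h3]
          rw [mul_assoc]; exact h4
      have h1 := (Ω.subgroupOf U1).card_mul_index
      rw [hidx, card_subgroupOf hΩU1] at h1
      omega
  -- the quotient Ω / H1
  have hH1Ω : H1 ≤ Ω := hH1Z.trans hZΩ
  have hnorm : (H1.subgroupOf Ω).Normal := by
    constructor
    rintro ⟨a, ha⟩ haH ⟨b, hb⟩
    rw [mem_subgroupOf] at haH ⊢
    show b * a * b⁻¹ ∈ H1
    have h1 := hcomU1 b hb.1 a ha.1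
    have : b * a * b⁻¹ = ⁅b, a⁆ * a := by rw [commutatorElement_def]; group
    rw [this]; exact mul_mem h1 haH
  set V := Ω ⧸ H1.subgroupOf Ω with hV
  have hVcomm : ∀ a b : V, a * b = b * a := by
    intro a b
    obtain ⟨a, rfl⟩ := QuotientGroup.mk_surjective a
    obtain ⟨b, rfl⟩ := QuotientGroup.mk_surjective b
    rw [← QuotientGroup.mk_mul, ← QuotientGroup.mk_mul, QuotientGroup.eq, mem_subgroupOf]
    show ((a : P) * b)⁻¹ * (b * a) ∈ H1
    have h1 := hcomU1 _ (inv_mem b.2.1) _ (inv_mem a.2.1)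
    have : ((a : P) * b)⁻¹ * (b * a) = ⁅(b : P)⁻¹, (a : P)⁻¹⁆ := by rw [commutatorElement_def]; group
    rw [this]; exact h1
  have hVsq : ∀ a : V, a * a = 1 := by
    intro a
    obtain ⟨a, rfl⟩ := QuotientGroup.mk_surjective a
    rw [← QuotientGroup.mk_mul, QuotientGroup.eq_one_iff, mem_subgroupOf]
    exact a.2.2
  obtain ⟨K, hK1, hK2⟩ := exists_index_two hVcomm hVsq
    ((Z.subgroupOf Ω).map (QuotientGroup.mk' (H1.subgroupOf Ω)))
  set Q : Subgroup P := (K.comap (QuotientGroup.mk' (H1.subgroupOf Ω))).map Ω.subtype with hQ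
  have hQΩ : Q ≤ Ω := map_subtype_le _
  have hQmem : ∀ (x : P) (hx : x ∈ Ω), x ∈ Q ↔ QuotientGroup.mk' (H1.subgroupOf Ω) ⟨x, hx⟩ ∈ K := by
    intro x hx
    constructor
    · rintro ⟨w, hw, hwz⟩
      have : w = ⟨x, hx⟩ := Subtype.ext hwz
      rw [← this]; exact hw
    · intro h; exact ⟨_, h, rfl⟩
  have hnotle : ¬ Z ≤ Q := by
    intro h
    have hZH1 : Z ≤ H1 := by
      intro z hz
      have h1 : QuotientGroup.mk' (H1.subgroupOf Ω) ⟨z, hZΩ hz⟩ ∈ K := (hQmem z (hZΩ hz)).1 (h hz)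
      have h2 : QuotientGroup.mk' (H1.subgroupOf Ω) ⟨z, hZΩ hz⟩ ∈
          (Z.subgroupOf Ω).map (QuotientGroup.mk' (H1.subgroupOf Ω)) :=
        ⟨⟨z, hZΩ hz⟩, mem_subgroupOf.2 hz, rfl⟩
      have h3 : QuotientGroup.mk' (H1.subgroupOf Ω) ⟨z, hZΩ hz⟩ ∈ (⊥ : Subgroup V) := by
        rw [← hK1]; exact ⟨h2, h1⟩
      rw [mem_bot, QuotientGroup.mk'_apply, QuotientGroup.eq_one_iff, mem_subgroupOf] at h3
      exact h3
    have h1 := Nat.le_of_dvd Nat.card_pos (card_dvd_of_le hZH1)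
    have h2 : 0 < Nat.card H1 := Nat.card_pos
    omega
  have hcardQ : Nat.card Ω ≤ 2 * Nat.card Q := by
    have h1 := card_map_mk (H1.subgroupOf Ω) (Z.subgroupOf Ω) (fun x hx => hH1Z hx)
    rw [card_subgroupOf hH1Ω, card_subgroupOf hZΩ, hcardH1] at h1
    have hpos : 0 < Nat.card H1 := Nat.card_pos
    have hF : Nat.card ((Z.subgroupOf Ω).map (QuotientGroup.mk' (H1.subgroupOf Ω))) = 2 :=
      Nat.eq_of_mul_eq_mul_right hpos h1
    rw [hF] at hK2
    have h2 : Nat.card Q = Nat.card (K.comap (QuotientGroup.mk' (H1.subgroupOf Ω))) :=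
      Subgroup.card_map_of_injective Ω.subtype_injective
    have h3 := card_map_mk (H1.subgroupOf Ω) (K.comap (QuotientGroup.mk' (H1.subgroupOf Ω))) (by
      intro x hx
      rw [mem_comap, QuotientGroup.mk'_apply, (QuotientGroup.eq_one_iff x).2 hx]
      exact one_mem _)
    rw [map_comap_eq_self_of_surjective (QuotientGroup.mk'_surjective _)] at h3
    have h4 := (H1.subgroupOf Ω).card_mul_index
    have h5 : (H1.subgroupOf Ω).index = Nat.card V := rfl
    rw [h5] at h4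
    rw [← h4, h2, ← h3]
    calc Nat.card (H1.subgroupOf Ω) * Nat.card V ≤ Nat.card (H1.subgroupOf Ω) * (2 * Nat.card K) :=
          Nat.mul_le_mul_left _ hK2
      _ = 2 * (Nat.card K * Nat.card (H1.subgroupOf Ω)) := by ring
  have hUU1 : Nat.card U ≤ Nat.card U1 := Nat.le_of_dvd Nat.card_pos (card_dvd_of_le le_sup_left)
  exact hnotle (hd Q (hQΩ.trans (hΩU1.trans hU1W)) (by omega))

end Cfsg.Agent.H309.Ru
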