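import Cfsg.Agent.H309.Ru.AbsD

/-!
# S3204: `Hyp` for the Sylow 2-subgroup as an abstract group (helper309)
-/

set_option autoImplicit false

namespace Cfsg.Agent.H309.Ru

open Subgroup
open scoped commutatorElement

local notation "UC" => Subgroup.upperCentralSeries

variable {P : Type*} [Group P] [Finite P]

theorem comm_mul_left (t t' z : P) : ⁅t * t', z⁆ = t * ⁅t', z⁆ * t⁻¹ * ⁅t, z⁆ := by
  simp only [commutatorElement_def]; group

theorem comm_mul_right (t z z' : P) : ⁅t, z * z'⁆ = ⁅t, z⁆ * (z * ⁅t, z'⁆ * z⁻¹) := by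
  simp only [commutatorElement_def]; group

/-- The elements of `⊤` acting trivially on `K` modulo the normal subgroup `N`. -/
def actT (N K : Subgroup P) [hN : N.Normal] : Subgroup P where
  carrier := {t | ∀ z ∈ K, ⁅t, z⁆ ∈ N}
  one_mem' := by
    intro z _
    rw [commutatorElement_one_left]; exact one_mem _
  mul_mem' := by
    intro t t' ht ht' z hz
    rw [comm_mul_left]
    exact mul_mem (hN.conj_mem _ (ht' z hz) t) (ht z hz)
  inv_mem' := by
    intro t ht z hz
    have : ⁅t⁻¹, z⁆ = t⁻¹ * ⁅t, z⁆⁻¹ * t⁻¹⁻¹ := by simp only [commutatorElement_def]; group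
    rw [this]
    exact hN.conj_mem _ (inv_mem (ht z hz)) _

theorem mem_actT {N K : Subgroup P} [N.Normal] {t : P} : t ∈ actT N K ↔ ∀ z ∈ K, ⁅t, z⁆ ∈ N := Iff.rfl

theorem card_of_index_two {H : Subgroup P} (h : H.index = 2) : Nat.card P = 2 * Nat.card H := by
  rw [← H.card_mul_index, h, mul_comm]

/-- the fixed points in a section of `P / UC i` -/
theorem card_fix_uc (hcs : ∀ i < 4, Nat.card (UC P (i + 1)) = 2 * Nat.card (UC P i)) (i : ℕ) (hi : i < 4)
    (B : Subgroup (P ⧸ UC P i)) :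
    Nat.card (B ⊓ centralizer ((⊤ : Subgroup (P ⧸ UC P i)) : Set (P ⧸ UC P i)) : Subgroup (P ⧸ UC P i)) ≤ 2 := by
  have hle : (B ⊓ centralizer ((⊤ : Subgroup (P ⧸ UC P i)) : Set (P ⧸ UC P i)) : Subgroup (P ⧸ UC P i)) ≤
      (UC P (i + 1)).map (QuotientGroup.mk' (UC P i)) := by
    rintro x ⟨-, hx⟩
    obtain ⟨w, rfl⟩ := QuotientGroup.mk'_surjective _ x
    refine ⟨w, ?_, rfl⟩
    show w ∈ UC P (i + 1)
    rw [uc_mem]
    intro y
    rw [← QuotientGroup.eq_one_iff]
    have h6 := mem_centralizer_iff.1 hx (QuotientGroup.mk' (UC P i) y) (mem_top _)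
    have : (QuotientGroup.mk' (UC P i)) ⁅y, w⁆ = 1 := by
      rw [map_commutatorElement, commutatorElement_eq_one_iff_mul_comm]; exact h6
    exact this
  have h7 := card_map_mk (UC P i) (UC P (i + 1)) (Subgroup.upperCentralSeries_mono P (Nat.le_succ i))
  have h8 := hcs i hi
  have hpos : 0 < Nat.card (UC P i) := Nat.card_pos
  rw [h8] at h7
  have h9 : Nat.card ((UC P (i + 1)).map (QuotientGroup.mk' (UC P i))) = 2 :=
    Nat.eq_of_mul_eq_mul_right hpos h7
  calc _ ≤ Nat.card ((UC P (i + 1)).map (QuotientGroup.mk' (UC P i))) :=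
        Nat.le_of_dvd Nat.card_pos (card_dvd_of_le hle)
    _ = 2 := h9

/-- Counting bound used twice: `A ≥ UC i` normal, elementary abelian modulo `UC i`, centralized by an index 2
subgroup modulo `UC i`. -/
theorem card_le_four_mul (hcs : ∀ i < 4, Nat.card (UC P (i + 1)) = 2 * Nat.card (UC P i)) (i : ℕ) (hi : i < 4)
    (T1 : Subgroup P) (hT1 : T1.index = 2) (hUT : UC P i ≤ T1) (A : Subgroup P) (hA : UC P i ≤ A)
    (hsq : ∀ a ∈ A, a * a ∈ UC P i) (hn : ∀ t : P, ∀ a ∈ A, t * a * t⁻¹ ∈ A)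
    (hc : ∀ t ∈ T1, ∀ a ∈ A, ⁅t, a⁆ ∈ UC P i) : Nat.card A ≤ 4 * Nat.card (UC P i) := by
  set π := QuotientGroup.mk' (UC P i) with hπ
  have hsurj : Function.Surjective π := QuotientGroup.mk'_surjective _
  have h1 := card_fix_le (A.map π) (by
    rintro _ ⟨a, ha, rfl⟩
    rw [← map_mul, hπ, QuotientGroup.mk'_apply, QuotientGroup.eq_one_iff]
    exact hsq a ha) (T1.map π) ⊤ le_top (by
      have e1 := card_map_mk (UC P i) T1 hUT
      have e2 := card_of_index_two hT1
      have e3 := (UC P i).card_mul_index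
      have e4 : (UC P i).index = Nat.card (P ⧸ UC P i) := rfl
      rw [e4] at e3
      rw [card_top]
      have hpos : 0 < Nat.card (UC P i) := Nat.card_pos
      apply Nat.eq_of_mul_eq_mul_left hpos
      rw [e3, e2, ← e1]; ring) (by
      rintro r - _ ⟨a, ha, rfl⟩
      obtain ⟨t, rfl⟩ := hsurj r
      exact ⟨t * a * t⁻¹, hn t a ha, by simp⟩)
  have h2 : (A.map π ⊓ centralizer ((T1.map π : Subgroup (P ⧸ UC P i)) : Set (P ⧸ UC P i)) :
      Subgroup (P ⧸ UC P i)) = A.map π := by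
    apply inf_of_le_left
    rintro _ ⟨a, ha, rfl⟩
    rw [mem_centralizer_iff]
    rintro _ ⟨t, ht, rfl⟩
    have h3 := hc t ht a ha
    rw [← QuotientGroup.eq_one_iff] at h3
    have h4 : π ⁅t, a⁆ = 1 := h3
    rw [map_commutatorElement, commutatorElement_eq_one_iff_mul_comm] at h4
    exact h4
  rw [h2] at h1
  have h3 := card_fix_uc hcs i hi (A.map π)
  have h4 : Nat.card (A.map π) ≤ 4 := h1.trans (by
    calc _ ≤ 2 ^ 2 := Nat.pow_le_pow_left h3 2
      _ = 4 := by norm_num)
  have h5 := card_map_mk (UC P i) A hA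
  rw [← h5]
  exact Nat.mul_le_mul_right _ h4

theorem hyp_of (hP : IsPGroup 2 P) (ha : 2 ^ 14 ≤ Nat.card P) (hb : Nat.card (UC P 4) = 16)
    (W : Subgroup P) (hW : W = centralizer (UC P 3 : Set P)) (hc : Nat.card (frattini W) ≤ 8)
    (hd : ∀ U : Subgroup W, U.index ≤ 16 → frattini W ≤ U) :
    ∃ T1 T2 : Subgroup P, Hyp ⊤ T1 T2 W (UC P 4) (UC P 3) (UC P 2) (UC P 1) ∧
      (commutator W).map W.subtype = UC P 3 := by
  classical
  have : Fact (Nat.Prime 2) := ⟨Nat.prime_two⟩
  obtain ⟨hidx, hcW, hcP, h4W, hΦ, hfull⟩ := orders hP ha hb W hW hc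
  have hn : Group.IsNilpotent P := hP.isNilpotent
  obtain ⟨k1, k2, k3⟩ := cards hn hb (by omega)
  have m12 : UC P 1 ≤ UC P 2 := Subgroup.upperCentralSeries_mono P (by norm_num)
  have m23 : UC P 2 ≤ UC P 3 := Subgroup.upperCentralSeries_mono P (by norm_num)
  have m34 : UC P 3 ≤ UC P 4 := Subgroup.upperCentralSeries_mono P (by norm_num)
  have hcs : ∀ i < 4, Nat.card (UC P (i + 1)) = 2 * Nat.card (UC P i) := by
    intro i hi
    have h0 : Nat.card (UC P 0) = 1 := by
      rw [Subgroup.upperCentralSeries_zero]; exact card_bot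
    interval_cases i
    · rw [zero_add, k1, h0]
    · rw [k1]; exact k2
    · rw [k2]; exact k3
    · rw [k3]; exact hb
  have memW : ∀ t : P, t ∈ W ↔ ∀ z ∈ UC P 3, t * z = z * t := by
    intro t
    rw [hW, mem_centralizer_iff]
    constructor
    · intro h z hz; exact (h z hz).symm
    · intro h z hz; exact (h z hz).symm
  have b1 : ∀ z ∈ UC P 1, ∀ t : P, t * z = z * t := fun z hz t => uc_one_mem.1 hz t
  have b2 : ∀ z ∈ UC P 2, ∀ t : P, ⁅t, z⁆ ∈ UC P 1 := fun z hz t => uc_mem.1 hz t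
  have b3 : ∀ z ∈ UC P 3, ∀ t : P, ⁅t, z⁆ ∈ UC P 2 := fun z hz t => uc_mem.1 hz t
  have b4 : ∀ z ∈ UC P 4, ∀ t : P, ⁅t, z⁆ ∈ UC P 3 := fun z hz t => uc_mem.1 hz t
  have hWn : W.Normal := by
    rw [hW]; infer_instance
  have hWp : IsPGroup 2 W := hP.to_subgroup W
  have cen : ∀ z ∈ UC P 3, ∀ w ∈ W, w * z = z * w := fun z hz w hw => (memW w).1 hw z hz
  have sqW : ∀ w ∈ W, w * w ∈ UC P 3 := by
    intro w hw
    rw [← hΦ]
    refine ⟨⟨w, hw⟩ * ⟨w, hw⟩, ?_, rfl⟩
    have := Cfsg.Agent.Lib.FrattiniPGroup.pow_mem_frattini hWp (⟨w, hw⟩ : W)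
    rw [sq] at this
    exact this
  have comW : ∀ w ∈ W, ∀ w' ∈ W, ⁅w, w'⁆ ∈ UC P 3 := by
    intro w hw w' hw'
    rw [← hΦ]
    refine ⟨⁅(⟨w, hw⟩ : W), ⟨w', hw'⟩⁆, ?_, rfl⟩
    exact Cfsg.Agent.Lib.FrattiniPGroup.commutator_mem_frattini hWp _ _
  have hd' : ∀ U : Subgroup P, U ≤ W → Nat.card W ≤ 16 * Nat.card U → UC P 3 ≤ U := by
    intro U hU hcard
    have h1 := (U.subgroupOf W).card_mul_index
    rw [card_subgroupOf hU] at h1
    have h2 : (U.subgroupOf W).index ≤ 16 := by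
      by_contra hcon
      push Not at hcon
      have hpos : 0 < Nat.card U := Nat.card_pos
      nlinarith
    have h3 := hd _ h2
    rw [← hΦ, map_le_iff_le_comap]
    exact h3
  have hC := lemC hP W (UC P 3) (m34.trans h4W) cen sqW comW hd'
  -- Z is elementary abelian
  have sqZ : ∀ z ∈ UC P 3, z * z = 1 := by
    let H : Subgroup P :=
      { carrier := {z | z ∈ UC P 3 ∧ z * z = 1}
        one_mem' := ⟨one_mem _, by simp⟩
        mul_mem' := by
          rintro x y ⟨hx, hx2⟩ ⟨hy, hy2⟩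
          refine ⟨mul_mem hx hy, ?_⟩
          have h1 := cen y hy x (h4W (m34 hx))
          calc x * y * (x * y) = (x * y) * x * y := by group
            _ = (y * x) * x * y := by rw [h1]
            _ = y * (x * x) * y := by group
            _ = 1 := by rw [hx2, mul_one, hy2]
        inv_mem' := by
          rintro x ⟨hx, hx2⟩
          exact ⟨inv_mem hx, by rw [← mul_inv_rev, hx2, inv_one]⟩ }
    have h1 : UC P 3 ≤ H := by
      apply hC W le_rfl (by omega)
      intro x hx y hy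
      refine ⟨comW x hx y hy, ?_⟩
      have hc1 := comW x hx y hy
      have e1 := cen _ (sqW x hx) y hy
      -- ⁅x*x, y⁆ = 1
      have e2 : ⁅x * x, y⁆ = 1 := by
        rw [commutatorElement_eq_one_iff_mul_comm]; exact e1.symm
      rw [comm_mul_left] at e2
      have e3 := cen _ hc1 x hx
      have e4 : x * ⁅x, y⁆ * x⁻¹ = ⁅x, y⁆ := by rw [e3]; group
      rw [e4] at e2
      exact e2
    exact fun z hz => (h1 hz).2
  -- z1, z2, z3
  obtain ⟨z1, hz1, hz1'⟩ : ∃ z ∈ UC P 1, z ≠ 1 := by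
    by_contra h
    push Not at h
    have : UC P 1 = ⊥ := by
      rw [eq_bot_iff]; intro z hz; exact mem_bot.2 (h z hz)
    rw [this, card_bot] at k1
    omega
  obtain ⟨z2, hz2, hz2'⟩ : ∃ z ∈ UC P 2, z ∉ UC P 1 := by
    by_contra h
    push Not at h
    have := Nat.le_of_dvd Nat.card_pos (card_dvd_of_le (show UC P 2 ≤ UC P 1 from h))
    omega
  obtain ⟨z3, hz3, hz3'⟩ : ∃ z ∈ UC P 3, z ∉ UC P 2 := by
    by_contra h
    push Not at h
    have := Nat.le_of_dvd Nat.card_pos (card_dvd_of_le (show UC P 3 ≤ UC P 2 from h))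
    omega
  have hZ1 : ∀ z ∈ UC P 1, z = 1 ∨ z = z1 := by
    intro z hz
    have h0 : Nat.card (UC P 0) = 1 := by
      rw [Subgroup.upperCentralSeries_zero]; exact card_bot
    rcases mem_or_mem (A := UC P 0) (B := UC P 1) (Subgroup.upperCentralSeries_mono P (by norm_num))
      (by rw [k1, h0]) hz1 (by rw [Subgroup.upperCentralSeries_zero, mem_bot]; exact hz1') hz with h | h
    · left; rwa [Subgroup.upperCentralSeries_zero, mem_bot] at h
    · right
      rw [Subgroup.upperCentralSeries_zero, mem_bot] at h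
      have := mul_eq_one_iff_eq_inv.1 h
      rw [inv_inj] at this; exact this.symm
  have hmod2 : ∀ z ∈ UC P 2, z ∈ UC P 1 ∨ z2⁻¹ * z ∈ UC P 1 := fun z hz =>
    mem_or_mem m12 (hcs 1 (by norm_num)) hz2 hz2' hz
  have hmod3 : ∀ z ∈ UC P 3, z ∈ UC P 2 ∨ z3⁻¹ * z ∈ UC P 2 := fun z hz =>
    mem_or_mem m23 (hcs 2 (by norm_num)) hz3 hz3' hz
  -- products of two elements of UC2 \ UC1
  have hprod2 : ∀ a ∈ UC P 2, ∀ b ∈ UC P 2, a ∉ UC P 1 → b ∉ UC P 1 → a * b ∈ UC P 1 := by
    intro a ha b hb ha' hb'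
    have h1 := mem_or_mem m12 (hcs 1 (by norm_num)) (inv_mem ha) (by rwa [inv_mem_iff]) hb
    rw [inv_inv] at h1
    exact h1.resolve_left hb'
  -- T1 and T2
  set T1 : Subgroup P := actT (UC P 1) (UC P 3) with hT1
  set T2 : Subgroup P := actT (UC P 0) (UC P 2) with hT2
  have mem1 : ∀ t, t ∈ T1 ↔ ⁅t, z3⁆ ∈ UC P 1 := by
    intro t
    constructor
    · intro h; exact h z3 hz3
    · intro h z hz
      rcases hmod3 z hz with h1 | h1
      · exact b2 z h1 t
      · have : z = z3 * (z3⁻¹ * z) := by group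
        rw [this, comm_mul_right]
        have hN : (UC P 1).Normal := inferInstance
        exact mul_mem h (hN.conj_mem _ (b2 _ h1 t) _)
  have mem2 : ∀ t, t ∈ T2 ↔ ⁅t, z2⁆ = 1 := by
    intro t
    rw [hT2, mem_actT]
    constructor
    · intro h
      have := h z2 hz2
      rwa [Subgroup.upperCentralSeries_zero, mem_bot] at this
    · intro h z hz
      rw [Subgroup.upperCentralSeries_zero, mem_bot]
      have hc1 : ∀ z ∈ UC P 1, ⁅t, z⁆ = 1 := fun z hz => by
        rw [commutatorElement_eq_one_iff_mul_comm]; exact b1 z hz t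
      rcases hmod2 z hz with h1 | h1
      · exact hc1 z h1
      · have : z = z2 * (z2⁻¹ * z) := by group
        rw [this, comm_mul_right, h, hc1 _ h1]; simp
  have mem2' : ∀ t, t ∈ T2 ↔ ∀ z ∈ UC P 2, t * z = z * t := by
    intro t
    rw [hT2, mem_actT]
    constructor
    · intro h z hz
      have := h z hz
      rwa [Subgroup.upperCentralSeries_zero, mem_bot, commutatorElement_eq_one_iff_mul_comm] at this
    · intro h z hz
      rw [Subgroup.upperCentralSeries_zero, mem_bot, commutatorElement_eq_one_iff_mul_comm]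
      exact h z hz
  have idx1 : T1.index = 2 := by
    rw [index_eq_two_iff_exists_notMem_and]
    obtain ⟨a, ha1, ha2⟩ := hfull z2 hz2 hz2' z3 hz3 hz3' 1 (one_mem _) z2 hz2
    refine ⟨a, ?_, ?_⟩
    · rw [mem1, ha2]; exact hz2'
    · intro b
      by_cases hb' : b ∈ T1
      · exact Or.inr hb'
      · left
        rw [mem1, comm_mul_left, ha2]
        rw [mem1] at hb'
        have hN : (UC P 2).Normal := inferInstance
        have hN1 : (UC P 1).Normal := inferInstance
        apply hprod2 _ (hN.conj_mem _ hz2 b) _ (b3 z3 hz3 b) _ hb'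
        intro hcon
        apply hz2'
        have := hN1.conj_mem _ hcon b⁻¹
        simpa [mul_assoc] using this
  have idx2 : T2.index = 2 := by
    rw [index_eq_two_iff_exists_notMem_and]
    obtain ⟨a, ha1, ha2⟩ := hfull z2 hz2 hz2' z3 hz3 hz3' z1 hz1 1 (one_mem _)
    refine ⟨a, ?_, ?_⟩
    · rw [mem2, ha1]; exact hz1'
    · intro b
      by_cases hb' : b ∈ T2
      · exact Or.inr hb'
      · left
        rw [mem2, comm_mul_left, ha1]
        rw [mem2] at hb'
        have h1 := (hZ1 _ (b2 z2 hz2 b)).resolve_left hb'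
        rw [h1, b1 z1 hz1 b, mul_assoc, mul_assoc, ← mul_assoc b, mul_inv_cancel, one_mul]
        exact sqZ z1 (m23 (m12 hz1))
  have hcT1 : Nat.card T1 = 8192 := by
    have := card_of_index_two idx1; omega
  have hcT2 : Nat.card T2 = 8192 := by
    have := card_of_index_two idx2; omega
  have hW1 : W ≤ T1 := by
    intro w hw
    rw [mem1]
    have : ⁅w, z3⁆ = 1 := by rw [commutatorElement_eq_one_iff_mul_comm]; exact cen z3 hz3 w hw
    rw [this]; exact one_mem _
  have hW2 : W ≤ T2 := by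
    intro w hw
    rw [mem2']
    intro z hz; exact cen z (m23 hz) w hw
  refine ⟨T1, T2, ?_, ?_⟩
  · refine
      { Z1_le := m12, Z2_le := m23, Z_le := m34, Z4_le := h4W, W_le1 := hW1, W_le2 := hW2
        T1_le := le_top, T2_le := le_top, cZ1 := k1, cZ2 := k2, cZ := k3, cZ4 := hb, cW := hcW
        cT1 := hcT1, cT2 := hcT2, cT := by rw [card_top]; exact hcP
        sqZ := sqZ, cen := cen, memW := fun t _ h => (memW t).2 h, sqW := sqW, comW := comW
        c1 := fun t _ z hz => b1 z hz t, c2 := fun t _ z hz => b2 z hz t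
        c3 := fun t _ z hz => b3 z hz t, c4 := fun t _ z hz => b4 z hz t
        nW := fun t _ w hw => hWn.conj_mem w hw t
        memT1 := fun t => ⟨fun h => ⟨trivial, h⟩, fun h => h.2⟩
        memT2 := fun t => ⟨fun h => ⟨trivial, (mem2' t).1 h⟩, fun h => (mem2' t).2 h.2⟩
        d := hd', C := hC
        up1 := fun x _ h => uc_mem.2 (fun y => h y trivial)
        norm2 := ?_, norm4 := ?_
        full := ?_, b1 := ?_, e1 := ?_ }
    · intro K hK hKn hK1
      have hKN : K.Normal := ⟨fun k hk t => hKn t trivial k hk⟩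
      exact ucs_le_of_normal hn 4 hcs K hKN 1 (by norm_num) hK1
    · intro K hK hKn hK1
      have hKN : K.Normal := ⟨fun k hk t => hKn t trivial k hk⟩
      exact ucs_le_of_normal hn 4 hcs K hKN 3 (by norm_num) hK1
    · intro z2 h2 h2' z3 h3 h3' a ha b hb
      obtain ⟨t, ht1, ht2⟩ := hfull z2 h2 h2' z3 h3 h3' a ha b hb
      exact ⟨t, trivial, ht1, ht2⟩
    · intro A hAW hZA hT1A hAn
      have := card_le_four_mul hcs 3 (by norm_num) T1 idx1 ((m34.trans h4W).trans hW1) A hZA
        (fun a ha => sqW a (hAW ha)) (fun t a ha => hAn t trivial a ha) hT1A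
      omega
    · intro A _ hZA hsq hAn hT1A
      have := card_le_four_mul hcs 1 (by norm_num) T1 idx1 (m12.trans (m23.trans ((m34.trans h4W).trans hW1)))
        A hZA (fun a ha => by rw [hsq a ha]; exact one_mem _) (fun t a ha => hAn t trivial a ha) hT1A
      omega
  · apply le_antisymm
    · rw [← hΦ]
      apply map_mono
      exact Cfsg.Agent.Lib.FrattiniPGroup.commutator_le_frattini hWp
    · apply hC W le_rfl (by omega)
      intro x hx y hy
      refine ⟨⁅(⟨x, hx⟩ : W), ⟨y, hy⟩⁆, ?_, rfl⟩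
      exact commutator_mem_commutator (mem_top _) (mem_top _)

end Cfsg.Agent.H309.Ru
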