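import Cfsg.Agent.H309.Conj
import Cfsg.Agent.Lib.CoprimeAbelian
import Cfsg.Agent.Lib.PGroupCoprimeAction
import Cfsg.Agent.Lib.ElemAbGL

/-!
# S3204: a group of automorphisms of an elementary abelian group of order 256 (helper309)

If `K ⊴ B ≤ Aut(V)`, `K` of odd order, `B / K` simple of order divisible by 7 and a 2-subgroup `Tb` of `B`
fixes exactly one nontrivial element of `V`, then `K = 1`.
-/

set_option autoImplicit false

namespace Cfsg.Agent.H309.Ru

open Subgroup Pointwise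

section fix

variable {V : Type*} [CommGroup V] [Finite V]

/-- A 2-group fixes a nontrivial element in each invariant nontrivial subgroup of a 2-group. -/
theorem exists_fix (Tb : Subgroup (MulAut V)) (hT : IsPGroup 2 Tb) (X : Subgroup V) {n : ℕ}
    (hV : Nat.card V = 2 ^ n)
    (hX : ∀ t ∈ Tb, ∀ x ∈ X, t x ∈ X) (hne : X ≠ ⊥) : ∃ c ∈ X, c ≠ 1 ∧ ∀ t ∈ Tb, t c = c := by
  have : Fact (Nat.Prime 2) := ⟨Nat.prime_two⟩
  let act : MulAction Tb X :=
    { smul := fun t x => ⟨(t : MulAut V) x, hX t t.2 x x.2⟩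
      one_smul := fun x => Subtype.ext rfl
      mul_smul := fun s t x => Subtype.ext rfl }
  have h1 : 2 ∣ Nat.card X := by
    have h2 := X.card_subgroup_dvd_card
    rw [hV] at h2
    obtain ⟨k, -, hk⟩ := (Nat.dvd_prime_pow Nat.prime_two).1 h2
    have h3 : k ≠ 0 := by
      rintro rfl
      rw [pow_zero] at hk
      exact hne (Subgroup.card_eq_one.1 hk)
    rw [hk]; exact dvd_pow_self 2 h3
  obtain ⟨b, hb, hb1⟩ := hT.exists_fixed_point_of_prime_dvd_card_of_fixed_point X h1 (a := (1 : X)) (by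
    intro t
    apply Subtype.ext
    show (t : MulAut V) 1 = 1
    exact map_one _)
  refine ⟨b, b.2, fun h => hb1 (Subtype.ext h.symm), fun t ht => ?_⟩
  exact congrArg Subtype.val (hb ⟨t, ht⟩)

end fix

theorem card_aut256 {V : Type*} [CommGroup V] (hV : Nat.card V = 256) (hsq : ∀ v : V, v * v = 1) :
    Nat.card (MulAut V) = 5348063769211699200 := by
  have : Fact (Nat.Prime 2) := ⟨Nat.prime_two⟩
  obtain ⟨e⟩ := Cfsg.Agent.Lib.ElemAbGL.mulAut_equiv_GL (V := V) 2 8 (fun x => by rw [sq]; exact hsq x)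
    (by rw [hV]; norm_num)
  rw [Nat.card_congr e.toEquiv, Matrix.card_GL_field]
  simp [Fin.prod_univ_succ, ZMod.card]

/-- No automorphisms of order 7. -/
theorem not_seven {K : Type*} [CommGroup K] {p m : ℕ} (hp : p.Prime) (hpow : ∀ x : K, x ^ p = 1)
    (hc : Nat.card K = p ^ m) (h : (p = 3 ∧ m ≤ 5) ∨ (p = 5 ∧ m ≤ 2) ∨ (p = 17 ∧ m ≤ 1)) :
    ¬ 7 ∣ Nat.card (MulAut K) := by
  have : Fact p.Prime := ⟨hp⟩
  obtain ⟨e⟩ := Cfsg.Agent.Lib.ElemAbGL.mulAut_equiv_GL (V := K) p m hpow hc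
  rw [Nat.card_congr e.toEquiv, Matrix.card_GL_field]
  rcases h with ⟨rfl, hm⟩ | ⟨rfl, hm⟩ | ⟨rfl, hm⟩
  · interval_cases m <;> simp [Fin.prod_univ_succ, ZMod.card]
  · interval_cases m <;> simp [Fin.prod_univ_succ, ZMod.card]
  · interval_cases m <;> simp [Fin.prod_univ_succ, ZMod.card]

/-- Sylow's theorem inside a subgroup. -/
theorem exists_conj_in {A : Type*} [Group A] [Finite A] {p : ℕ} [Fact p.Prime] {K P Q : Subgroup A}
    (hP : ∃ T : Sylow p K, (T : Subgroup K).map K.subtype = P) (hQ : IsPGroup p Q) (hQK : Q ≤ K) :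
    ∃ k ∈ K, MulAut.conj k • Q ≤ P := by
  obtain ⟨T, rfl⟩ := hP
  have hQ1 : IsPGroup p (Q.subgroupOf K) := hQ.of_equiv (subgroupOfEquivOfLe hQK).symm
  obtain ⟨R, hR⟩ := hQ1.exists_le_sylow
  obtain ⟨k, hk⟩ := MulAction.exists_smul_eq K R T
  refine ⟨k, k.2, ?_⟩
  intro x hx
  rw [mem_conj_smul] at hx
  have hxK : x ∈ K := by
    have := K.mul_mem (K.mul_mem k.2 (hQK hx)) (K.inv_mem k.2)
    simpa [mul_assoc] using this
  have hy : (⟨(k : A)⁻¹ * x * k, hQK hx⟩ : K) ∈ (R : Subgroup K) := hR (by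
    rw [mem_subgroupOf]; exact hx)
  have hz : (⟨x, hxK⟩ : K) ∈ ((k • R : Sylow p K) : Subgroup K) := by
    rw [Sylow.coe_subgroup_smul, mem_conj_smul]
    exact hy
  rw [hk] at hz
  exact ⟨⟨x, hxK⟩, hz, rfl⟩

/-- The elementary abelian subgroup `Ω₁(Z(P))`. -/
def omegaZ {A : Type*} [Group A] (P : Subgroup A) (p : ℕ) : Subgroup A where
  carrier := {x | x ∈ P ∧ (∀ y ∈ P, x * y = y * x) ∧ x ^ p = 1}
  one_mem' := ⟨one_mem _, fun y _ => by simp, one_pow _⟩
  mul_mem' := by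
    rintro x y ⟨hx, hxc, hxp⟩ ⟨hy, hyc, hyp⟩
    refine ⟨mul_mem hx hy, fun z hz => ?_, ?_⟩
    · rw [mul_assoc, hyc z hz, ← mul_assoc, hxc z hz, mul_assoc]
    · rw [(show Commute x y from hxc y hy).mul_pow, hxp, hyp, one_mul]
  inv_mem' := by
    rintro x ⟨hx, hxc, hxp⟩
    refine ⟨inv_mem hx, fun z hz => ?_, ?_⟩
    · have := (show Commute x z from hxc z hz).inv_left
      exact this
    · rw [inv_pow, hxp, inv_one]

theorem omegaZ_ne_bot {A : Type*} [Group A] [Finite A] {P : Subgroup A} {p : ℕ} [hp : Fact p.Prime]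
    (hP : IsPGroup p P) (hne : P ≠ ⊥) : omegaZ P p ≠ ⊥ := by
  intro hbot
  have hnt : Nontrivial P := (Subgroup.nontrivial_iff_ne_bot P).2 hne
  have h1 : Nontrivial (center P) := hP.center_nontrivial
  have h2 : p ∣ Nat.card (center P) := by
    obtain ⟨n, hn⟩ := IsPGroup.iff_card.1 (hP.to_subgroup (center P))
    have h3 : n ≠ 0 := by
      rintro rfl
      rw [pow_zero] at hn
      exact absurd (Finite.one_lt_card (α := center P)) (by omega)
    rw [hn]; exact dvd_pow_self p h3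
  obtain ⟨x, hx⟩ := exists_prime_orderOf_dvd_card' p h2
  have h4 : ((x : P) : A) ∈ omegaZ P p := by
    refine ⟨(x : P).2, fun y hy => ?_, ?_⟩
    · have := mem_center_iff.1 x.2 ⟨y, hy⟩
      exact (congrArg Subtype.val this).symm
    · have h5 : x ^ p = 1 := by rw [← hx]; exact pow_orderOf_eq_one x
      have h6 := congrArg (fun z : center P => ((z : P) : A)) h5
      simpa using h6
  rw [hbot, mem_bot] at h4
  have h5 : x = 1 := Subtype.ext (Subtype.ext h4)
  rw [h5, orderOf_one] at hx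
  exact hp.out.one_lt.ne hx

theorem omegaZ_conj {A : Type*} [Group A] {P : Subgroup A} {p : ℕ} {y : A}
    (hy : y ∈ normalizer (P : Set A)) {x : A} (hx : x ∈ omegaZ P p) : y * x * y⁻¹ ∈ omegaZ P p := by
  obtain ⟨h1, h2, h3⟩ := hx
  refine ⟨(mem_normalizer_iff.1 hy x).1 h1, fun z hz => ?_, ?_⟩
  · have h4 : y⁻¹ * z * y ∈ P := by
      have := (mem_normalizer_iff.1 (inv_mem hy) z).1 hz
      rwa [inv_inv] at this
    have h5 := h2 _ h4
    calc y * x * y⁻¹ * z = y * (x * (y⁻¹ * z * y)) * y⁻¹ := by group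
      _ = y * ((y⁻¹ * z * y) * x) * y⁻¹ := by rw [h5]
      _ = z * (y * x * y⁻¹) := by group
  · rw [conj_pow, h3]; simp

theorem key {V : Type*} [CommGroup V] [Finite V] (hV : Nat.card V = 256) (hsq : ∀ v : V, v * v = 1)
    (B K Tb : Subgroup (MulAut V)) (hKB : K ≤ B) (hKn : ∀ b ∈ B, ∀ k ∈ K, b * k * b⁻¹ ∈ K)
    (hKodd : ¬ 2 ∣ Nat.card K) (hTB : Tb ≤ B) (hT2 : IsPGroup 2 Tb)
    (hfix : ∀ v v' : V, (∀ t ∈ Tb, t v = v) → (∀ t ∈ Tb, t v' = v') → v ≠ 1 → v' ≠ 1 → v = v')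
    {S : Type*} [Group S] [Finite S] [IsSimpleGroup S] (ψ : B →* S) (hψ : Function.Surjective ψ)
    (hker : ∀ b : B, ψ b = 1 ↔ (b : MulAut V) ∈ K) (h7 : 7 ∣ Nat.card S) : K = ⊥ := by
  classical
  have : Fact (Nat.Prime 2) := ⟨Nat.prime_two⟩
  have : Fact (Nat.Prime 7) := ⟨by norm_num⟩
  have hcA := card_aut256 hV hsq
  have : Finite (MulAut V) := Nat.finite_of_card_ne_zero (by rw [hcA]; norm_num)
  by_contra hK
  -- a prime divisor
  have hK1 : Nat.card K ≠ 1 := fun h => hK (Subgroup.card_eq_one.1 h)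
  obtain ⟨p, hp, hpK⟩ := Nat.exists_prime_and_dvd hK1
  have : Fact p.Prime := ⟨hp⟩
  have hp2 : p ≠ 2 := by rintro rfl; exact hKodd hpK
  obtain ⟨P, hPT, hPinv⟩ := Cfsg.Agent.Lib.PGroupCoprimeAction.exists_invariant_sylow (A := Tb) (H := K)
    hT2 hKodd (fun b hb u hu => hKn b (hTB hb) u hu) p
  have hPp : IsPGroup p P := by
    obtain ⟨T, rfl⟩ := hPT
    exact T.2.map _
  have hPK : P ≤ K := by
    obtain ⟨T, rfl⟩ := hPT
    exact map_subtype_le _
  have hPne : P ≠ ⊥ := by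
    obtain ⟨T, rfl⟩ := hPT
    intro h
    rw [Subgroup.map_eq_bot_iff_of_injective _ K.subtype_injective] at h
    have h1 := T.card_eq_multiplicity
    rw [h, card_bot] at h1
    have h2 : 1 ≤ (Nat.card K).factorization p :=
      (hp.dvd_iff_one_le_factorization Nat.card_pos.ne').1 hpK
    have h3 := Nat.one_lt_pow (n := (Nat.card K).factorization p) (by omega) hp.one_lt
    omega
  set K0 : Subgroup (MulAut V) := omegaZ P p with hK0
  have hK0ne : K0 ≠ ⊥ := omegaZ_ne_bot hPp hPne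
  have hK0P : K0 ≤ P := fun x hx => hx.1
  have hK0p : IsPGroup p K0 := hPp.to_le hK0P
  obtain ⟨m, hm⟩ := IsPGroup.iff_card.1 hK0p
  have hTN : Tb ≤ normalizer (P : Set (MulAut V)) := by
    intro t ht
    rw [mem_normalizer_iff_conj]
    apply eq_of_le_of_card_le
    · rw [conj_smul_le]; exact fun x hx => hPinv t ht x hx
    · rw [card_conj_smul]
  have hNK0 : ∀ y ∈ normalizer (P : Set (MulAut V)), ∀ x ∈ K0, y * x * y⁻¹ ∈ K0 := fun y hy x hx =>
    omegaZ_conj hy hx
  have hK0odd : Nat.Coprime 2 (Nat.card K0) := by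
    rw [hm]
    exact Nat.Coprime.pow_right _ ((Nat.coprime_primes Nat.prime_two hp).2 (Ne.symm hp2))
  -- the fixed points of K0
  let C : Subgroup V :=
    { carrier := {v | ∀ a ∈ K0, a v = v}
      one_mem' := fun a _ => map_one a
      mul_mem' := fun {x y} hx hy a ha => by rw [map_mul, hx a ha, hy a ha]
      inv_mem' := fun {x} hx a ha => by rw [map_inv, hx a ha] }
  have hCinv : ∀ t ∈ Tb, ∀ x ∈ C, t x ∈ C := by
    intro t ht x hx a ha
    have h1 : t⁻¹ * a * t⁻¹⁻¹ ∈ K0 := hNK0 _ (inv_mem (hTN ht)) a ha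
    have h2 := hx _ h1
    have h3 : a (t x) = t ((t⁻¹ * a * t⁻¹⁻¹) x) := by
      simp [MulAut.mul_apply]
    rw [h3, h2]
  have hC : C = ⊥ := by
    by_contra hCne
    obtain ⟨c, hc, hc1, hct⟩ := exists_fix Tb hT2 C (n := 8) (by rw [hV]; norm_num) hCinv hCne
    letI : Fintype K0 := Fintype.ofFinite _
    let e : V →* V := Cfsg.Agent.Lib.CoprimeAbelian.norm (A := K0) K0.subtype
    have he : ∀ v, e v = ∏ a : K0, (a : MulAut V) v := fun v => rfl
    have hEinv : ∀ t ∈ Tb, ∀ x ∈ e.ker, t x ∈ e.ker := by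
      intro t ht x hx
      rw [MonoidHom.mem_ker] at hx ⊢
      have h1 : e (t x) = t (e x) := by
        rw [he, he, map_prod]
        have htN := hTN ht
        refine Fintype.prod_equiv
          { toFun := fun a : K0 => (⟨t⁻¹ * a * t⁻¹⁻¹, hNK0 _ (inv_mem htN) a a.2⟩ : K0)
            invFun := fun a : K0 => (⟨t * a * t⁻¹, hNK0 _ htN a a.2⟩ : K0)
            left_inv := fun a => Subtype.ext (by simp [mul_assoc])
            right_inv := fun a => Subtype.ext (by simp [mul_assoc]) } _ _ ?_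
        intro a
        show (a : MulAut V) (t x) = t ((t⁻¹ * (a : MulAut V) * t⁻¹⁻¹) x)
        simp [MulAut.mul_apply]
      rw [h1, hx, map_one]
    have hEne : e.ker ≠ ⊥ := by
      intro hE
      have hinj : Function.Injective e := (MonoidHom.ker_eq_bot_iff e).1 hE
      have hsurj : Function.Surjective e := Finite.injective_iff_surjective.1 hinj
      apply hK0ne
      rw [eq_bot_iff]
      intro a ha
      rw [mem_bot]
      ext v
      obtain ⟨w, rfl⟩ := hsurj v
      exact Cfsg.Agent.Lib.CoprimeAbelian.norm_fixed (A := K0) K0.subtype w ⟨a, ha⟩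
    obtain ⟨d, hd, hd1, hdt⟩ := exists_fix Tb hT2 e.ker (n := 8) (by rw [hV]; norm_num) hEinv hEne
    have hcd := hfix c d hct hdt hc1 hd1
    have h1 : e c = c ^ Fintype.card K0 :=
      Cfsg.Agent.Lib.CoprimeAbelian.norm_of_fixed (A := K0) K0.subtype c (fun a => hc a a.2)
    rw [← hcd, MonoidHom.mem_ker, h1, ← Nat.card_eq_fintype_card] at hd
    -- c has order 2
    have h2 : orderOf c ∣ 2 := orderOf_dvd_of_pow_eq_one (by rw [sq]; exact hsq c)
    have h3 : orderOf c ∣ Nat.card K0 := orderOf_dvd_of_pow_eq_one hd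
    have h4 : orderOf c ∣ 1 := by
      rw [← hK0odd]; exact Nat.dvd_gcd h2 h3
    exact hc1 (orderOf_eq_one_iff.1 (Nat.dvd_one.1 h4))
  have hCtriv : ∀ v : V, (∀ a ∈ K0, a v = v) → v = 1 := by
    intro v hv
    have : v ∈ C := hv
    rw [hC] at this
    exact mem_bot.1 this
  -- p divides 255
  have hp255 : p ∣ 255 := by
    have h1 := hK0p.card_modEq_card_fixedPoints V
    have h2 : MulAction.fixedPoints K0 V = {1} := by
      ext v
      rw [MulAction.mem_fixedPoints, Set.mem_singleton_iff]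
      constructor
      · intro hv
        exact hCtriv v (fun a ha => hv ⟨a, ha⟩)
      · rintro rfl a
        exact map_one (a : MulAut V)
    rw [h2, hV] at h1
    have h3 : Nat.card ({1} : Set V) = 1 := by simp
    rw [h3] at h1
    have h4 := (Nat.modEq_iff_dvd' (by norm_num : 1 ≤ 256)).1 h1.symm
    simpa using h4
  have hK0dvd : p ^ m ∣ 5348063769211699200 := by
    rw [← hm, ← hcA]; exact K0.card_subgroup_dvd_card
  have hcases : (p = 3 ∧ m ≤ 5) ∨ (p = 5 ∧ m ≤ 2) ∨ (p = 17 ∧ m ≤ 1) := by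
    have h1 : p ∈ ({3, 5, 17} : Finset ℕ) := by
      have h2 : p ∈ (255 : ℕ).primeFactors := Nat.mem_primeFactors.2 ⟨hp, hp255, by norm_num⟩
      have h3 : (255 : ℕ).primeFactors = {3, 5, 17} := by
        have e1 : (255 : ℕ) = 3 * (5 * 17) := by norm_num
        rw [e1, Nat.primeFactors_mul (by norm_num) (by norm_num), Nat.primeFactors_mul (by norm_num)
          (by norm_num), Nat.Prime.primeFactors (by norm_num), Nat.Prime.primeFactors (by norm_num),
          Nat.Prime.primeFactors (by norm_num)]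
        rfl
      rw [← h3]; exact h2
    simp only [Finset.mem_insert, Finset.mem_singleton] at h1
    rcases h1 with rfl | rfl | rfl
    · left
      refine ⟨rfl, ?_⟩
      by_contra hcon
      have h4 : 3 ^ 6 ∣ 5348063769211699200 := (pow_dvd_pow 3 (by omega)).trans hK0dvd
      norm_num at h4
    · right; left
      refine ⟨rfl, ?_⟩
      by_contra hcon
      have h4 : 5 ^ 3 ∣ 5348063769211699200 := (pow_dvd_pow 5 (by omega)).trans hK0dvd
      norm_num at h4
    · right; right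
      refine ⟨rfl, ?_⟩
      by_contra hcon
      have h4 : 17 ^ 2 ∣ 5348063769211699200 := (pow_dvd_pow 17 (by omega)).trans hK0dvd
      norm_num at h4
  have hn7 : ¬ 7 ∣ Nat.card (MulAut K0) := by
    letI : CommGroup K0 := { (inferInstance : Group K0) with
      mul_comm := fun a b => Subtype.ext (a.2.2.1 b (hK0P b.2)) }
    exact not_seven (K := K0) hp (fun x => Subtype.ext x.2.2.2) hm hcases
  -- the group Y
  set Y : Subgroup (MulAut V) := B ⊓ normalizer (P : Set (MulAut V)) with hY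
  have hYK0 : Y ≤ normalizer (K0 : Set (MulAut V)) := by
    intro y hy
    rw [mem_normalizer_iff_conj]
    apply eq_of_le_of_card_le
    · rw [conj_smul_le]; exact fun x hx => hNK0 y hy.2 x hx
    · rw [card_conj_smul]
  let θ : Y →* MulAut K0 := (K0.normalizerMonoidHom).comp (inclusion hYK0)
  have hθ : ∀ y : Y, θ y = 1 ↔ ∀ a ∈ K0, (y : MulAut V) * a = a * y := by
    intro y
    constructor
    · intro h a ha
      have h1 := congrArg (fun f : MulAut K0 => ((f ⟨a, ha⟩ : K0) : MulAut V)) h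
      have h2 : (y : MulAut V) * a * (y : MulAut V)⁻¹ = a := h1
      calc (y : MulAut V) * a = (y : MulAut V) * a * (y : MulAut V)⁻¹ * y := by group
        _ = a * y := by rw [h2]
    · intro h
      ext a
      show (((y : MulAut V) * a * (y : MulAut V)⁻¹ : MulAut V)) _ = _
      rw [h a a.2]
      simp
  let ψY : Y →* S := ψ.comp (inclusion inf_le_left)
  have hψY : Function.Surjective ψY := by
    intro s
    obtain ⟨b, hb⟩ := hψ s
    obtain ⟨k, hk, hkP⟩ := exists_conj_in hPT (Q := MulAut.conj (b : MulAut V) • P)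
      (isPGroup_conj_smul hPp) (by rw [conj_smul_le]; exact fun x hx => hKn b b.2 x (hPK hx))
    have h1 : MulAut.conj (k * (b : MulAut V)) • P = P := by
      rw [conj_mul_smul]
      exact eq_of_le_of_card_le hkP (by rw [card_conj_smul, card_conj_smul])
    refine ⟨⟨k * b, mem_inf.2 ⟨mul_mem (hKB hk) b.2, mem_normalizer_iff_conj.2 h1⟩⟩, ?_⟩
    have e : (inclusion (inf_le_left : Y ≤ B)) ⟨k * b, mem_inf.2 ⟨mul_mem (hKB hk) b.2,
        mem_normalizer_iff_conj.2 h1⟩⟩ = (⟨k, hKB hk⟩ : B) * b := rfl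
    show ψ _ = s
    rw [e, map_mul, (hker ⟨k, hKB hk⟩).2 hk, one_mul, hb]
  have hkerne : θ.ker.map ψY ≠ ⊥ := by
    intro hbot
    obtain ⟨s, hs⟩ := exists_prime_orderOf_dvd_card' 7 h7
    obtain ⟨y, hy⟩ := hψY s
    have hy0 : 0 < orderOf y := orderOf_pos y
    obtain ⟨a, r, hr, har⟩ := Nat.exists_eq_pow_mul_and_not_dvd hy0.ne' 7 (by norm_num)
    have h1 : (θ (y ^ r)) = 1 := by
      have h2 : orderOf (θ (y ^ r)) ∣ 7 ^ a := by
        apply orderOf_dvd_of_pow_eq_one
        rw [← map_pow, ← pow_mul, mul_comm r, ← har, pow_orderOf_eq_one, map_one]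
      obtain ⟨i, -, hi⟩ := (Nat.dvd_prime_pow (by norm_num)).1 h2
      have h3 : orderOf (θ (y ^ r)) ∣ Nat.card (MulAut K0) := orderOf_dvd_natCard _
      have h4 : i = 0 := by
        by_contra hi0
        rw [hi] at h3
        exact hn7 ((dvd_pow_self 7 hi0).trans h3)
      rw [h4, pow_zero] at hi
      exact orderOf_eq_one_iff.1 hi
    have h2 : ψY (y ^ r) ∈ θ.ker.map ψY := ⟨y ^ r, h1, rfl⟩
    rw [hbot, mem_bot, map_pow, hy] at h2
    exact hr (by rw [← hs]; exact orderOf_dvd_of_pow_eq_one h2)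
  have hkertop : θ.ker.map ψY = ⊤ := by
    have hn : (θ.ker.map ψY).Normal := Subgroup.Normal.map inferInstance ψY hψY
    exact (IsSimpleGroup.eq_bot_or_eq_top_of_normal _ hn).resolve_left hkerne
  -- Tb centralizes K0
  have hTc : ∀ t ∈ Tb, ∀ a ∈ K0, t * a = a * t := by
    intro t ht
    have htY : t ∈ Y := mem_inf.2 ⟨hTB ht, hTN ht⟩
    have h1 : ψY ⟨t, htY⟩ ∈ θ.ker.map ψY := by rw [hkertop]; trivial
    obtain ⟨x, hx, hxt⟩ := h1
    have hx' : θ x = 1 := hx
    have h2 : ψY (x⁻¹ * ⟨t, htY⟩) = 1 := by rw [map_mul, map_inv, hxt, inv_mul_cancel]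
    have h3 : ((x⁻¹ * ⟨t, htY⟩ : Y) : MulAut V) ∈ K := (hker _).1 h2
    have h4 : θ ⟨t, htY⟩ = θ (x⁻¹ * ⟨t, htY⟩) := by
      rw [map_mul, map_inv, hx', inv_one, one_mul]
    have h5 : orderOf (θ ⟨t, htY⟩) ∣ Nat.card K := by
      rw [h4]
      refine (orderOf_map_dvd θ _).trans ?_
      have h6 : orderOf (x⁻¹ * ⟨t, htY⟩ : Y) = orderOf (⟨_, h3⟩ : K) := by
        rw [← Subgroup.orderOf_coe, ← Subgroup.orderOf_coe]
      rw [h6]; exact orderOf_dvd_natCard _
    obtain ⟨n, hn⟩ := IsPGroup.iff_card.1 hT2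
    have h6 : orderOf (θ ⟨t, htY⟩) ∣ 2 ^ n := by
      refine (orderOf_map_dvd θ _).trans ?_
      have h7 : orderOf (⟨t, htY⟩ : Y) = orderOf (⟨t, ht⟩ : Tb) := by
        rw [← Subgroup.orderOf_coe, ← Subgroup.orderOf_coe]
      rw [h7, ← hn]; exact orderOf_dvd_natCard _
    have h7 : Nat.Coprime (2 ^ n) (Nat.card K) :=
      Nat.Coprime.pow_left _ ((Nat.Prime.coprime_iff_not_dvd Nat.prime_two).2 hKodd)
    have h8 : orderOf (θ ⟨t, htY⟩) ∣ 1 := by rw [← h7]; exact Nat.dvd_gcd h6 h5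
    have h9 := orderOf_eq_one_iff.1 (Nat.dvd_one.1 h8)
    exact (hθ _).1 h9
  -- the fixed element of Tb
  have hVne : (⊤ : Subgroup V) ≠ ⊥ := by
    intro h
    have h1 : Nat.card (⊤ : Subgroup V) = 256 := by rw [card_top, hV]
    rw [h, card_bot] at h1
    omega
  obtain ⟨c, -, hc1, hct⟩ := exists_fix Tb hT2 ⊤ (n := 8) (by rw [hV]; norm_num)
    (fun _ _ _ _ => trivial) hVne
  apply hc1
  apply hCtriv
  intro a ha
  refine hfix (a c) c ?_ hct ?_ hc1
  · intro t ht
    have h1 := congrArg (fun f : MulAut V => f c) (hTc t ht a ha)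
    simp only [MulAut.mul_apply] at h1
    rw [h1, hct t ht]
  · intro h
    apply hc1
    have := a.injective (h.trans (map_one a).symm)
    exact this

end Cfsg.Agent.H309.Ru
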