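import Cfsg.Agent.H309.Ru.Trans
import Cfsg.Agent.H309.Ru.Key

/-!
# S3204: `N_C(W)` acts trivially on `W / Z` (helper309)
-/

set_option autoImplicit false

namespace Cfsg.Agent.H309.Ru

open Subgroup Pointwise
open scoped commutatorElement

section odd

variable {G : Type*} [Group G] [Finite G]

/-- `S ∩ C` has index prime to `p` in `C` if the Sylow subgroup `S` normalizes `C`. -/
theorem exists_card_eq {p : ℕ} [Fact p.Prime] (S : Sylow p G) (C : Subgroup G)
    (hSC : (S : Subgroup G) ≤ normalizer (C : Set G)) :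
    ∃ k, Nat.card C = Nat.card ((S : Subgroup G) ⊓ C : Subgroup G) * k ∧ ¬ p ∣ k := by
  have h1 := card_sup_mul hSC
  obtain ⟨k, hk⟩ := card_dvd_of_le (le_sup_left : (S : Subgroup G) ≤ (S : Subgroup G) ⊔ C)
  have hSpos : 0 < Nat.card S := Nat.card_pos
  have h2 : Nat.card C = Nat.card ((S : Subgroup G) ⊓ C : Subgroup G) * k := by
    rw [hk] at h1
    have h3 : Nat.card S * (k * Nat.card ((S : Subgroup G) ⊓ C : Subgroup G)) = Nat.card S * Nat.card C := by
      rw [← mul_assoc]; exact h1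
    rw [mul_comm, ← Nat.eq_of_mul_eq_mul_left hSpos h3]
  have h4 : k ∣ (S : Subgroup G).index := by
    have h5 := ((S : Subgroup G) ⊔ C).card_mul_index
    rw [← (S : Subgroup G).card_mul_index, hk, mul_assoc] at h5
    exact ⟨_, (Nat.eq_of_mul_eq_mul_left hSpos h5).symm⟩
  exact ⟨k, h2, fun h => S.not_dvd_index (h.trans h4)⟩

end odd

variable {G : Type*} [Group G]

variable {T T1 T2 W Z4 Z Z2 Z1 : Subgroup G}

namespace Hyp

theorem Zn (h : Hyp T T1 T2 W Z4 Z Z2 Z1) : (Z.subgroupOf W).Normal := by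
  constructor
  intro n hn w
  rw [mem_subgroupOf] at hn ⊢
  have := h.cen _ hn _ w.2
  show (w : G) * n * (w : G)⁻¹ ∈ Z
  rw [this, mul_inv_cancel_right]; exact hn

/-- Elements of `W` fixed by `T` modulo `Z` lie in `Z4`. -/
theorem fixW [Finite G] (h : Hyp T T1 T2 W Z4 Z Z2 Z1) {w : G} (hw : w ∈ W) (hc : ∀ t ∈ T, ⁅t, w⁆ ∈ Z) :
    w ∈ Z4 := by
  by_cases hwZ : w ∈ Z
  · exact h.Z_le hwZ
  let K : Subgroup G :=
    { carrier := {x | x ∈ W ∧ (x ∈ Z ∨ w⁻¹ * x ∈ Z)}
      one_mem' := ⟨one_mem _, Or.inl (one_mem _)⟩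
      mul_mem' := by
        rintro x y ⟨hx, hx'⟩ ⟨hy, hy'⟩
        refine ⟨mul_mem hx hy, ?_⟩
        rcases hx' with hx' | hx' <;> rcases hy' with hy' | hy'
        · exact Or.inl (mul_mem hx' hy')
        · right
          have e : w⁻¹ * (x * y) = x * (w⁻¹ * y) := by
            rw [← mul_assoc, h.cen x hx' _ (inv_mem hw), mul_assoc]
          rw [e]; exact mul_mem hx' hy'
        · right
          rw [← mul_assoc]; exact mul_mem hx' hy'
        · left
          have e : x * y = w * (w⁻¹ * x) * (w * (w⁻¹ * y)) := by group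
          have e2 : w * (w⁻¹ * x) * (w * (w⁻¹ * y)) = (w * w) * (w⁻¹ * x) * (w⁻¹ * y) := by
            calc w * (w⁻¹ * x) * (w * (w⁻¹ * y)) = w * ((w⁻¹ * x) * w) * (w⁻¹ * y) := by group
              _ = w * (w * (w⁻¹ * x)) * (w⁻¹ * y) := by rw [h.cen _ hx' w hw]
              _ = _ := by group
          rw [e, e2]
          exact mul_mem (mul_mem (h.sqW w hw) hx') hy'
      inv_mem' := by
        rintro x ⟨hx, hx'⟩
        refine ⟨inv_mem hx, ?_⟩
        rcases hx' with hx' | hx'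
        · exact Or.inl (inv_mem hx')
        · right
          have e : w⁻¹ * x⁻¹ = (w * w)⁻¹ * (x * (w⁻¹ * x)⁻¹ * x⁻¹) := by group
          rw [e]
          refine mul_mem (inv_mem (h.sqW w hw)) ?_
          exact h.n3 (h.WT hx) (inv_mem hx') }
  have h4 : Z4 ≤ K := by
    apply h.norm4 K (fun x hx => hx.1)
    · rintro t ht x ⟨hx, hx'⟩
      refine ⟨h.nW t ht x hx, ?_⟩
      rcases hx' with hx' | hx'
      · exact Or.inl (h.n3 ht hx')
      · right
        have h5 : t * (w⁻¹ * x) * t⁻¹ ∈ Z := h.n3 ht hx'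
        have h6 : w⁻¹ * ⁅t, w⁆ * w⁻¹⁻¹ ∈ Z := h.n3 (inv_mem (h.WT hw)) (hc t ht)
        have e : w⁻¹ * (t * x * t⁻¹) = (w⁻¹ * ⁅t, w⁆ * w⁻¹⁻¹) * (t * (w⁻¹ * x) * t⁻¹) := by
          simp only [commutatorElement_def]; group
        rw [e]; exact mul_mem h6 h5
    · intro hle
      exact hwZ (hle (show w ∈ K from ⟨hw, Or.inr (by rw [inv_mul_cancel]; exact one_mem _)⟩))
  have h5 : ∃ y ∈ Z4, y ∉ Z := by
    by_contra hcon
    push Not at hcon
    have h6 := Nat.le_of_dvd Nat.card_pos (card_dvd_of_le (show Z4 ≤ Z from hcon))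
    rw [h.cZ, h.cZ4] at h6
    omega
  obtain ⟨y, hy, hyZ⟩ := h5
  have h6 : w⁻¹ * y ∈ Z := (h4 hy).2.resolve_left hyZ
  have e : w = y * (w⁻¹ * y)⁻¹ := by group
  rw [e]
  exact mul_mem hy (inv_mem (h.Z_le h6))

/-- An element acting trivially on `W / Z` centralizes `Z`. -/
theorem cent_of_triv (h : Hyp T T1 T2 W Z4 Z Z2 Z1) {n : G} (hn : ∀ w ∈ W, ⁅n, w⁆ ∈ Z) :
    n ∈ centralizer (Z : Set G) := by
  have h1 : Z ≤ centralizer ({n} : Set G) := by
    apply h.C W le_rfl (by omega)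
    intro x hx y hy
    rw [mem_centralizer_iff]
    intro m hm
    rw [Set.mem_singleton_iff] at hm
    subst hm
    have e1 : m * ⁅x, y⁆ * m⁻¹ = ⁅⁅m, x⁆ * x, ⁅m, y⁆ * y⁆ := by
      rw [← conj_eq m x, ← conj_eq m y]
      simp only [commutatorElement_def]; group
    have hzx := hn x hx
    have hzy := hn y hy
    have e2 : ∀ a ∈ Z, ∀ b ∈ Z, ⁅a * x, b * y⁆ = ⁅x, y⁆ := by
      intro a ha b hb
      have f1 : ⁅a * x, b * y⁆ = a * ⁅x, b * y⁆ * a⁻¹ * ⁅a, b * y⁆ := by
        simp only [commutatorElement_def]; group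
      have f2 : ⁅a, b * y⁆ = 1 := comm_eq_one (h.cen a ha _ (mul_mem (h.ZW hb) hy)).symm
      have f3 : ⁅x, b * y⁆ = ⁅x, b⁆ * (b * ⁅x, y⁆ * b⁻¹) := by simp only [commutatorElement_def]; group
      have f4 : ⁅x, b⁆ = 1 := comm_eq_one (h.cen b hb x hx)
      have hxy := h.comW x hx y hy
      have f5 : b * ⁅x, y⁆ * b⁻¹ = ⁅x, y⁆ := conj_of_mul_comm (h.commZ hb hxy)
      have f6 : a * ⁅x, y⁆ * a⁻¹ = ⁅x, y⁆ := conj_of_mul_comm (h.commZ ha hxy)
      rw [f1, f2, f3, f4, f5, one_mul, f6, mul_one]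
    rw [e2 _ hzx _ hzy] at e1
    calc m * ⁅x, y⁆ = m * ⁅x, y⁆ * m⁻¹ * m := by group
      _ = ⁅x, y⁆ * m := by rw [e1]
  rw [mem_centralizer_iff]
  intro z hz
  have := mem_centralizer_iff.1 (h1 hz) n rfl
  exact this.symm

end Hyp

/-- The action of `N(W)` on `W / Z`. -/
noncomputable def rho [(Z.subgroupOf W).Normal]
    (hNZ : normalizer (W : Set G) ≤ normalizer (Z : Set G)) :
    normalizer (W : Set G) →* MulAut (W ⧸ Z.subgroupOf W) where
  toFun n := QuotientGroup.congr (Z.subgroupOf W) (Z.subgroupOf W) (W.normalizerMonoidHom n) (by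
    ext x
    constructor
    · rintro ⟨y, hy, rfl⟩
      exact (mem_normalizer_iff.1 (hNZ n.2) _).1 hy
    · intro hx
      refine ⟨(W.normalizerMonoidHom n).symm x, ?_, by simp⟩
      have e : (((W.normalizerMonoidHom n).symm x : W) : G) = (n : G)⁻¹ * x * n := by
        have h1 : W.normalizerMonoidHom n ⟨(n : G)⁻¹ * x * n, by
            have := (mem_normalizer_iff.1 (inv_mem n.2) (x : G)).1 x.2
            rwa [inv_inv] at this⟩ = x := by
          apply Subtype.ext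
          show (n : G) * ((n : G)⁻¹ * x * n) * (n : G)⁻¹ = x
          group
        rw [MulEquiv.symm_apply_eq .. |>.2 h1.symm]
      show ((W.normalizerMonoidHom n).symm x : W) ∈ Z.subgroupOf W
      rw [mem_subgroupOf, e]
      have := (mem_normalizer_iff.1 (hNZ (inv_mem n.2)) (x : G)).1 hx
      rwa [inv_inv] at this)
  map_one' := by
    ext x
    obtain ⟨w, rfl⟩ := QuotientGroup.mk_surjective x
    show (QuotientGroup.mk _ : W ⧸ Z.subgroupOf W) = QuotientGroup.mk w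
    congr 1
    apply Subtype.ext
    show (1 : G) * w * (1 : G)⁻¹ = w
    group
  map_mul' := by
    intro a b
    ext x
    obtain ⟨w, rfl⟩ := QuotientGroup.mk_surjective x
    show (QuotientGroup.mk _ : W ⧸ Z.subgroupOf W) = QuotientGroup.mk _
    congr 1
    apply Subtype.ext
    show ((a : G) * b) * w * ((a : G) * b)⁻¹ = a * (b * w * (b : G)⁻¹) * (a : G)⁻¹
    group

end Cfsg.Agent.H309.Ru
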