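import Cfsg.Agent.H309.Ru.Compl
import Cfsg.Agent.Lib.Cores
import Cfsg.Prelude.Def_CaseTheorems

/-!
# S3204: conclusion (helper309)
-/

set_option autoImplicit false

namespace Cfsg.Agent.H309.Ru

open Subgroup Pointwise
open scoped commutatorElement

variable {G : Type*} [Group G] [Finite G] {T T1 T2 W Z4 Z Z2 Z1 : Subgroup G}

theorem final (h : Hyp T T1 T2 W Z4 Z Z2 Z1) (S : Sylow 2 G) (hS : (S : Subgroup G) = T)
    (hidx : ∀ H : Subgroup G, H.index ≠ 2) (M N : Subgroup G) (hM : M = normalizer (Z : Set G))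
    (hN : N = normalizer (W : Set G)) :
    (N.subgroupOf M ⊔ Cfsg.oddCore ↥M = ⊤) ∧
      ∃ (_ : (W.subgroupOf N ⊔ Cfsg.oddCore ↥N).Normal),
        Nonempty (↥N ⧸ (W.subgroupOf N ⊔ Cfsg.oddCore ↥N) ≃* GL (Fin 3) (ZMod 2)) := by
  classical
  have : Fact (Nat.Prime 2) := ⟨Nat.prime_two⟩
  subst hM hN
  obtain ⟨R, hRC, hRodd, hRn, hCRW⟩ := exists_compl h S hS hidx
  have hNZ := NWZ h
  have hCM : centralizer (Z : Set G) ≤ normalizer (Z : Set G) := by
    intro c hc
    apply mem_normalizer_of_conj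
    intro z hz
    rw [conj_of_mul_comm (mem_centralizer_iff.1 hc z hz).symm]; exact hz
  have hRM : R ≤ normalizer (Z : Set G) := hRC.trans hCM
  have hWN : W ≤ normalizer (W : Set G) := h.WT.trans h.TNW
  constructor
  · rw [eq_top_iff]
    rintro ⟨m, hm⟩ -
    obtain ⟨c, hc, hcm⟩ := frattiniC h S hS m hm
    obtain ⟨r, hr, w, hw, e⟩ := hCRW c⁻¹ (inv_mem hc)
    have h1 : (⟨r, hRM hr⟩ : normalizer (Z : Set G)) ∈ Cfsg.oddCore ↥(normalizer (Z : Set G)) := by
      have h2 : R.subgroupOf (normalizer (Z : Set G)) ≤ Cfsg.oddCore ↥(normalizer (Z : Set G)) := by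
        apply Cfsg.Agent.Lib.Cores.le_pPrimeCore
        · constructor
          intro x hx g
          rw [mem_subgroupOf] at hx ⊢
          exact hRn g g.2 x hx
        · rw [Nat.card_congr (subgroupOfEquivOfLe hRM).toEquiv]; exact hRodd
      exact h2 (mem_subgroupOf.2 hr)
    have h2 : w * (c * m) ∈ normalizer (W : Set G) := mul_mem (hWN hw) hcm
    have e2 : (⟨m, hm⟩ : normalizer (Z : Set G)) = ⟨r, hRM hr⟩ * ⟨w * (c * m), hNZ h2⟩ := by
      apply Subtype.ext
      show m = r * (w * (c * m))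
      have : r * (w * (c * m)) = (r * w) * c * m := by group
      rw [this, ← e]; group
    rw [e2]
    exact mul_mem (mem_sup_right h1) (mem_sup_left (mem_subgroupOf.2 h2))
  · have hOct : Cfsg.Agent.StdL2.G23Aut.Oct Z := ⟨h.cZ, h.sqZ⟩
    let g : normalizer (W : Set G) →* MulAut Z := Z.normalizerMonoidHom.comp (inclusion hNZ)
    have hg : ∀ n, g n = 1 ↔ (n : G) ∈ centralizer (Z : Set G) := by
      intro n
      rw [mem_centralizer_iff]
      constructor
      · intro h1 z hz
        have h2 := congrArg (fun f : MulAut Z => ((f ⟨z, hz⟩ : Z) : G)) h1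
        have h3 : (n : G) * z * (n : G)⁻¹ = z := h2
        calc z * (n : G) = ((n : G) * z * (n : G)⁻¹) * n := by rw [h3]
          _ = n * z := by group
      · intro h1
        ext z
        show (n : G) * z * (n : G)⁻¹ = z
        rw [← h1 z z.2]; group
    have hgsurj : Function.Surjective g := by
      intro φ
      have h1 : φ ∈ Cfsg.Agent.StdL2.G23Aut.img (normalizer (Z : Set G)) Z := by
        rw [full_aut h S hS hidx]; trivial
      rw [Cfsg.Agent.StdL2.G23Aut.mem_img] at h1
      obtain ⟨m, hm, -, e⟩ := h1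
      obtain ⟨c, hc, hcm⟩ := frattiniC h S hS m hm
      refine ⟨⟨c * m, hcm⟩, ?_⟩
      ext z
      show (c * m) * z * (c * m)⁻¹ = φ z
      rw [← e z]
      have h2 := mem_centralizer_iff.1 hc _ (conj_of_mem_normalizer hm z.2)
      calc (c * m) * z * (c * m)⁻¹ = (c * (m * z * m⁻¹)) * c⁻¹ := by group
        _ = m * z * m⁻¹ := by rw [← h2]; group
    have hker : W.subgroupOf (normalizer (W : Set G)) ⊔ Cfsg.oddCore ↥(normalizer (W : Set G)) = g.ker := by
      apply le_antisymm
      · apply sup_le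
        · intro x hx
          rw [MonoidHom.mem_ker, hg]
          exact WC h (mem_subgroupOf.1 hx)
        · intro x hx
          rw [MonoidHom.mem_ker, hg, mem_centralizer_iff]
          intro z hz
          have hzW := h.ZW hz
          -- the commutator lies in the odd core and in W
          have hn : (Cfsg.oddCore ↥(normalizer (W : Set G))).Normal :=
            Cfsg.Agent.Lib.Cores.pPrimeCore_normal 2
          have h1 : ⁅x, (⟨z, hWN hzW⟩ : normalizer (W : Set G))⁆ ∈ Cfsg.oddCore ↥(normalizer (W : Set G)) := by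
            have h2 := hn.conj_mem _ (inv_mem hx) (⟨z, hWN hzW⟩ : normalizer (W : Set G))
            have e : ⁅x, (⟨z, hWN hzW⟩ : normalizer (W : Set G))⁆ =
                x * ((⟨z, hWN hzW⟩ : normalizer (W : Set G)) * x⁻¹ * (⟨z, hWN hzW⟩)⁻¹) := by
              rw [commutatorElement_def]; group
            rw [e]; exact mul_mem hx h2
          have h3 : ⁅(x : G), z⁆ ∈ W := comm_mem_of_conj hzW (conj_of_mem_normalizer x.2 hzW)
          have h4 : orderOf ⁅x, (⟨z, hWN hzW⟩ : normalizer (W : Set G))⁆ ∣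
              Nat.card (Cfsg.oddCore ↥(normalizer (W : Set G))) := by
            have h5 : orderOf (⟨_, h1⟩ : Cfsg.oddCore ↥(normalizer (W : Set G))) =
              orderOf ⁅x, (⟨z, hWN hzW⟩ : normalizer (W : Set G))⁆ := by rw [← Subgroup.orderOf_coe]
            rw [← h5]; exact orderOf_dvd_natCard _
          have h5 : orderOf ⁅x, (⟨z, hWN hzW⟩ : normalizer (W : Set G))⁆ ∣ 2 ^ 11 := by
            have h6 : orderOf (⟨_, h3⟩ : W) = orderOf ⁅x, (⟨z, hWN hzW⟩ : normalizer (W : Set G))⁆ := by
              rw [← Subgroup.orderOf_coe, ← Subgroup.orderOf_coe]; rfl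
            rw [← h6, ← cW' h]; exact orderOf_dvd_natCard _
          have h6 : (Nat.card (Cfsg.oddCore ↥(normalizer (W : Set G)))).Coprime (2 ^ 11) :=
            Nat.Coprime.pow_right _ (Cfsg.Agent.Lib.Cores.pPrimeCore_coprime 2)
          have h7 := Nat.eq_one_of_dvd_coprimes h6 h4 h5
          rw [orderOf_eq_one_iff, commutatorElement_eq_one_iff_mul_comm] at h7
          exact (congrArg Subtype.val h7).symm
      · intro x hx
        rw [MonoidHom.mem_ker, hg] at hx
        obtain ⟨r, hr, w, hw, e⟩ := hCRW x hx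
        have hrN : r ∈ normalizer (W : Set G) := by
          have : r = x * w⁻¹ := by rw [e]; group
          rw [this]; exact mul_mem x.2 (inv_mem (hWN hw))
        have h1 : (R ⊓ normalizer (W : Set G)).subgroupOf (normalizer (W : Set G)) ≤
            Cfsg.oddCore ↥(normalizer (W : Set G)) := by
          apply Cfsg.Agent.Lib.Cores.le_pPrimeCore
          · constructor
            intro y hy g'
            rw [mem_subgroupOf] at hy ⊢
            exact mem_inf.2 ⟨hRn g' (hNZ g'.2) y hy.1, (g' * y * g'⁻¹).2⟩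
          · rw [Nat.card_congr (subgroupOfEquivOfLe inf_le_right).toEquiv]
            exact Nat.Coprime.coprime_dvd_left (card_dvd_of_le inf_le_left) hRodd
        have e2 : x = ⟨r, hrN⟩ * ⟨w, hWN hw⟩ := Subtype.ext e
        rw [e2]
        exact mul_mem (mem_sup_right (h1 (mem_subgroupOf.2 (mem_inf.2 ⟨hr, hrN⟩))))
          (mem_sup_left (mem_subgroupOf.2 hw))
    rw [hker]
    refine ⟨inferInstance, ?_⟩
    obtain ⟨e⟩ := Cfsg.Agent.StdL2.G23Aut.equiv_GL (V := Z) (fun v => Subtype.ext (h.sqZ v v.2)) h.cZ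
    exact ⟨(QuotientGroup.quotientKerEquivOfSurjective g hgsurj).trans e⟩

end Cfsg.Agent.H309.Ru
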