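import Cfsg.Agent.H309.Ru.Basic

/-!
# S3204: two conjugates of the data (helper309)
-/

set_option autoImplicit false

namespace Cfsg.Agent.H309.Ru

open Subgroup Pointwise
open scoped commutatorElement

variable {G : Type*} [Group G]

/-- `|K : K0| ≤ |L : N|` when commutation with `x` maps `K` to `L` with fibre `K0` modulo `N`. -/
theorem card_comm_le [Finite G] {K K0 L N : Subgroup G} (x : G) (hK0 : K0 ≤ K) (hN : N ≤ L)
    (hL : ∀ w ∈ K, ⁅x, w⁆ ∈ L) (hK : ∀ w ∈ K, ⁅x, w⁆ ∈ N → w ∈ K0)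
    (hn : ∀ w ∈ K, ∀ n ∈ N, w⁻¹ * n * w ∈ N) : Nat.card K * Nat.card N ≤ Nat.card K0 * Nat.card L := by
  classical
  have h1 : Nat.card (K ⧸ K0.subgroupOf K) ≤ Nat.card (L ⧸ N.subgroupOf L) := by
    let f : K ⧸ K0.subgroupOf K → L ⧸ N.subgroupOf L := fun q =>
      QuotientGroup.mk ⟨⁅x, (q.out : G)⁆, hL _ q.out.2⟩
    apply Nat.card_le_card_of_injective f
    intro p q hpq
    have h2 : (⟨⁅x, (p.out : G)⁆, hL _ p.out.2⟩ : L)⁻¹ * ⟨⁅x, (q.out : G)⁆, hL _ q.out.2⟩ ∈ N.subgroupOf L :=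
      QuotientGroup.eq.1 hpq
    rw [mem_subgroupOf] at h2
    have h3 : ⁅x, (p.out : G)⁆⁻¹ * ⁅x, (q.out : G)⁆ ∈ N := h2
    have h4 := hn _ p.out.2 _ h3
    have h5 : (p.out : G)⁻¹ * (⁅x, (p.out : G)⁆⁻¹ * ⁅x, (q.out : G)⁆) * (p.out : G) =
        ⁅x, (p.out : G)⁻¹ * (q.out : G)⁆ := by
      simp only [commutatorElement_def]; group
    rw [h5] at h4
    have h6 := hK _ (mul_mem (inv_mem p.out.2) q.out.2) h4
    rw [← QuotientGroup.out_eq' p, ← QuotientGroup.out_eq' q, QuotientGroup.eq, mem_subgroupOf]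
    exact h6
  have h2 := (K0.subgroupOf K).card_mul_index
  have h3 := (N.subgroupOf L).card_mul_index
  rw [Nat.card_congr (subgroupOfEquivOfLe hK0).toEquiv] at h2
  rw [Nat.card_congr (subgroupOfEquivOfLe hN).toEquiv] at h3
  have h4 : (K0.subgroupOf K).index = Nat.card (K ⧸ K0.subgroupOf K) := rfl
  have h5 : (N.subgroupOf L).index = Nat.card (L ⧸ N.subgroupOf L) := rfl
  rw [← h2, ← h3, h4, h5]
  calc Nat.card K0 * Nat.card (K ⧸ K0.subgroupOf K) * Nat.card N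
      ≤ Nat.card K0 * Nat.card (L ⧸ N.subgroupOf L) * Nat.card N :=
        Nat.mul_le_mul_right _ (Nat.mul_le_mul_left _ h1)
    _ = Nat.card K0 * (Nat.card N * Nat.card (L ⧸ N.subgroupOf L)) := by ring

/-- Two elements generating a group of order 4 modulo a subgroup. -/
theorem gen4 [Finite G] {W T1 K : Subgroup G} (hW : W ≤ T1) (hc : Nat.card T1 = 4 * Nat.card W) {a b : G}
    (ha : a ∈ T1) (hb : b ∈ T1) (haW : a ∉ W) (hbW : b ∉ W) (habW : a⁻¹ * b ∉ W) (hWK : W ≤ K)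
    (haK : a ∈ K) (hbK : b ∈ K) : T1 ≤ K := by
  by_contra hcon
  have h1 : K ⊓ T1 < T1 := lt_of_le_of_ne inf_le_right (fun h => hcon (inf_eq_right.1 h))
  have h2 : W < K ⊓ T1 := by
    refine lt_of_le_of_ne (le_inf hWK hW) ?_
    intro h
    exact haW (by rw [h]; exact ⟨haK, ha⟩)
  have h3 := card_lt_two h1
  have h4 := card_lt_two h2
  have h5 : Nat.card (K ⊓ T1 : Subgroup G) = 2 * Nat.card W := by omega
  rcases mem_or_mem h2.le h5 (x := a) (y := b) ⟨haK, ha⟩ haW ⟨hbK, hb⟩ with h6 | h6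
  · exact hbW h6
  · exact habW h6

/-- Choice of two such elements. -/
theorem exists_gen4 [Finite G] {U D : Subgroup G} {n : ℕ} (hn : Nat.card D = 2 ^ n) (hU : U ≤ D)
    (hc : Nat.card D = 4 * Nat.card U) : ∃ a ∈ D, ∃ b ∈ D, a ∉ U ∧ b ∉ U ∧ a⁻¹ * b ∉ U := by
  have hpos : 0 < Nat.card U := Nat.card_pos
  obtain ⟨D0, h1, h2, h3⟩ := exists_index_two_sub hn hU (fun h => by
    have := Nat.le_of_dvd Nat.card_pos (card_dvd_of_le h); omega)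
  have h4 : ∃ a ∈ D0, a ∉ U := by
    by_contra hcon
    push Not at hcon
    have := Nat.le_of_dvd Nat.card_pos (card_dvd_of_le (show D0 ≤ U from hcon)); omega
  have h5 : ∃ b ∈ D, b ∉ D0 := by
    by_contra hcon
    push Not at hcon
    have := Nat.le_of_dvd Nat.card_pos (card_dvd_of_le (show D ≤ D0 from hcon)); omega
  obtain ⟨a, ha, ha'⟩ := h4
  obtain ⟨b, hb, hb'⟩ := h5
  refine ⟨a, h2 ha, b, hb, ha', fun h => hb' (h1 h), fun h => hb' ?_⟩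
  have := mul_mem ha (h1 h)
  rwa [mul_inv_cancel_left] at this

/-- A pair of data `(T, ...)`, `(T', ...)` with `W1 = N_W(Z')` of index 2 in `W` and contained in `T'`. -/
structure Pair0 (T T1 T2 W Z4 Z Z2 Z1 T' T1' T2' W' Z4' Z' Z2' Z1' W1 : Subgroup G) : Prop where
  h : Hyp T T1 T2 W Z4 Z Z2 Z1
  h' : Hyp T' T1' T2' W' Z4' Z' Z2' Z1'
  ne : Z ≠ Z'
  eqW1 : W1 = W ⊓ normalizer (Z' : Set G)
  idx : Nat.card W = 2 * Nat.card W1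
  le' : W1 ≤ T'

namespace Hyp

variable {T T1 T2 W Z4 Z Z2 Z1 : Subgroup G}

theorem WNZ [Finite G] (h : Hyp T T1 T2 W Z4 Z Z2 Z1) : W ≤ normalizer (Z : Set G) := h.WT.trans h.TNZ

theorem cenc (h : Hyp T T1 T2 W Z4 Z Z2 Z1) {z w : G} (hz : z ∈ Z) (hw : w ∈ W) : ⁅w, z⁆ = 1 :=
  comm_eq_one (h.cen z hz w hw)

end Hyp

namespace Pair0

variable [Finite G] {T T1 T2 W Z4 Z Z2 Z1 T' T1' T2' W' Z4' Z' Z2' Z1' W1 : Subgroup G}
  (p : Pair0 T T1 T2 W Z4 Z Z2 Z1 T' T1' T2' W' Z4' Z' Z2' Z1' W1)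
include p

theorem cW1 : Nat.card W1 = 1024 := by
  have h1 := p.idx
  have h2 := p.h.cW
  omega

theorem W1W : W1 ≤ W := by rw [p.eqW1]; exact inf_le_left
theorem W1N : W1 ≤ normalizer (Z' : Set G) := by rw [p.eqW1]; exact inf_le_right

theorem U_le : (W ⊓ W' : Subgroup G) ≤ W1 := by
  rw [p.eqW1]
  exact inf_le_inf_left W p.h'.WNZ

theorem basic : Z ≤ W' ∧ Z' ≤ W ∧ Nat.card (W ⊓ W' : Subgroup G) = 256 ∧
    Nat.card (W1 ⊔ W' : Subgroup G) = 8192 ∧ (W1 ⊔ W' = T1' ∨ W1 ⊔ W' = T2') := by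
  have hUeq : (W1 ⊓ W' : Subgroup G) = W ⊓ W' := by
    apply le_antisymm
    · exact inf_le_inf_right W' p.W1W
    · exact le_inf p.U_le inf_le_right
  have h1 := card_mul_le p.le' p.h'.WT
  rw [hUeq, p.cW1, p.h'.cW, p.h'.cT] at h1
  have hZ : Z ≤ W ⊓ W' := p.h.d _ inf_le_left (by rw [p.h.cW]; omega)
  have hnorm : W1 ≤ normalizer (W' : Set G) := p.le'.trans p.h'.TNW
  have hsq : ∀ x ∈ W1 ⊔ W', x * x ∈ W' := by
    intro x hx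
    obtain ⟨a, ha, b, hb, rfl⟩ := (mem_sup_norm hnorm).1 hx
    have e : a * b * (a * b) = (a * b * a⁻¹) * (a * a) * b := by group
    rw [e]
    exact mul_mem (mul_mem (p.h'.nW a (p.le' ha) b hb) (hZ (p.h.sqW a (p.W1W ha))).2) hb
  have h4 : W1 ⊔ W' < T' := by
    refine lt_of_le_of_ne (sup_le p.le' p.h'.WT) ?_
    intro heq
    obtain ⟨a, ha, ha2⟩ := p.h'.exists_T1
    obtain ⟨b, hb, hb1⟩ := p.h'.exists_T2
    have hab : a * b ∈ T' := mul_mem (p.h'.T1_le ha) (p.h'.T2_le hb)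
    refine p.h'.sq_not_mem hab ?_ ?_ (hsq _ (by rw [heq]; exact hab))
    · intro h5; exact hb1 ((mul_mem_cancel_left ha).1 h5)
    · intro h5; exact ha2 ((mul_mem_cancel_right hb).1 h5)
  have h5 := card_lt_two h4
  rw [p.h'.cT] at h5
  have h6 := card_sup_mul hnorm
  rw [hUeq, p.cW1, p.h'.cW] at h6
  have h7 : Nat.card (W ⊓ W' : Subgroup G) < 512 := by
    by_contra hcon
    push Not at hcon
    apply p.ne
    apply eq_of_le_of_card_le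
    · apply p.h.C (W ⊓ W') inf_le_left (by rw [p.h.cW]; omega)
      intro x hx y hy
      exact p.h'.comW x hx.2 y hy.2
    · rw [p.h.cZ, p.h'.cZ]
  obtain ⟨k, hk, hck⟩ := dvd_of_le (inf_le_left : (W ⊓ W' : Subgroup G) ≤ W)
    (show Nat.card W = 2 ^ 11 by rw [p.h.cW]; norm_num)
  have h8 : Nat.card (W ⊓ W' : Subgroup G) = 256 := by
    have h9 : Nat.card (W1 ⊔ W' : Subgroup G) ≤ 8192 := by omega
    rw [hck] at h6 h7 ⊢
    interval_cases k <;> first | rfl | (exfalso; omega)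
  have h9 : Nat.card (W1 ⊔ W' : Subgroup G) = 8192 := by
    rw [h8] at h6; omega
  refine ⟨hZ.trans inf_le_right, ?_, h8, h9, ?_⟩
  · exact (p.h'.d _ inf_le_right (by rw [p.h'.cW, h8]; norm_num)).trans inf_le_left
  · exact p.h'.eq_of_sq (sup_le p.le' p.h'.WT) h9 hsq

theorem ZW' : Z ≤ W' := p.basic.1
theorem Z'W : Z' ≤ W := p.basic.2.1
theorem cU : Nat.card (W ⊓ W' : Subgroup G) = 256 := p.basic.2.2.1

theorem commU {x y : G} (hx : x ∈ W ⊓ W') (hy : y ∈ W ⊓ W') : ⁅x, y⁆ ∈ Z ⊓ Z' :=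
  ⟨p.h.comW _ hx.1 _ hy.1, p.h'.comW _ hx.2 _ hy.2⟩

theorem inf1 (hT : W1 ⊔ W' = T1') : Z ⊓ Z' = Z1' := by
  have hnorm : W1 ≤ normalizer (W' : Set G) := p.le'.trans p.h'.TNW
  apply le_antisymm
  · rintro z ⟨hz, hz'⟩
    apply p.h'.cent_T1 hz'
    intro t ht
    rw [← hT] at ht
    obtain ⟨a, ha, b, hb, rfl⟩ := (mem_sup_norm hnorm).1 ht
    rw [mul_assoc, p.h'.cen z hz' b hb, ← mul_assoc, p.h.cen z hz a (p.W1W ha), mul_assoc]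
  · intro a ha
    obtain ⟨z2, hz2, hz2'⟩ := p.h'.exists_z2
    obtain ⟨t, ht, e⟩ := p.h'.exists_comm_T1 hz2 hz2' ha
    rw [← hT] at ht
    obtain ⟨x, hx, y, hy, rfl⟩ := (mem_sup_norm hnorm).1 ht
    rw [comm_mul_left', p.h'.cenc (p.h'.Z2_le hz2) hy, commutatorElement_one_right, one_mul, one_mul] at e
    refine ⟨?_, p.h'.Z1Z ha⟩
    rw [← e]
    exact p.h.comW _ (p.W1W hx) _ (p.Z'W (p.h'.Z2_le hz2))

theorem inf2 (hT : W1 ⊔ W' = T2') : Z ⊓ Z' = Z2' := by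
  have hnorm : W1 ≤ normalizer (W' : Set G) := p.le'.trans p.h'.TNW
  apply le_antisymm
  · rintro z ⟨hz, hz'⟩
    apply p.h'.cent_T2 hz'
    intro t ht
    rw [← hT] at ht
    obtain ⟨a, ha, b, hb, rfl⟩ := (mem_sup_norm hnorm).1 ht
    rw [mul_assoc, p.h'.cen z hz' b hb, ← mul_assoc, p.h.cen z hz a (p.W1W ha), mul_assoc]
  · intro a ha
    obtain ⟨z3, hz3, hz3'⟩ := p.h'.exists_z3
    obtain ⟨t, ht, e⟩ := p.h'.exists_comm_T2 hz3 hz3' ha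
    rw [← hT] at ht
    obtain ⟨x, hx, y, hy, rfl⟩ := (mem_sup_norm hnorm).1 ht
    rw [comm_mul_left', p.h'.cenc hz3 hy, commutatorElement_one_right, one_mul, one_mul] at e
    refine ⟨?_, p.h'.Z2_le ha⟩
    rw [← e]
    exact p.h.comW _ (p.W1W hx) _ (p.Z'W hz3)

/-- the commutator formula -/
theorem xcomm {s y v : G} (hs : s ∈ W) (hy : y ∈ T) (hyN : y ∈ normalizer (Z' : Set G)) (hv : v ∈ Z') :
    ⁅y⁻¹ * s⁻¹ * y * s, v⁆ = ⁅s, v⁆ * (y⁻¹ * ⁅s, y * v * y⁻¹⁆ * y)⁻¹ := by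
  have h1 : ⁅s, v⁆ ∈ Z := p.h.comW _ hs _ (p.Z'W hv)
  have h2 : y * v * y⁻¹ ∈ Z' := conj_of_mem_normalizer hyN hv
  have h3 : ⁅s, y * v * y⁻¹⁆ ∈ Z := p.h.comW _ hs _ (p.Z'W h2)
  have h4 : y * ⁅s, v⁆ * y⁻¹ ∈ Z := p.h.n3 hy h1
  -- s commutes with these
  have c1 : s⁻¹ * (y * ⁅s, v⁆ * y⁻¹) = (y * ⁅s, v⁆ * y⁻¹) * s⁻¹ := p.h.cen _ h4 _ (inv_mem hs)
  have c2 : s⁻¹ * ⁅s, y * v * y⁻¹⁆ = ⁅s, y * v * y⁻¹⁆ * s⁻¹ := p.h.cen _ h3 _ (inv_mem hs)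
  -- conjugation by s⁻¹ of v' = y v y⁻¹
  have c3 : s⁻¹ * (y * v * y⁻¹) * s = ⁅s, y * v * y⁻¹⁆⁻¹ * (y * v * y⁻¹) := by
    have e1 : ⁅s, y * v * y⁻¹⁆⁻¹ * s⁻¹ = s⁻¹ * ⁅s, y * v * y⁻¹⁆⁻¹ := by
      calc ⁅s, y * v * y⁻¹⁆⁻¹ * s⁻¹ = ⁅s, y * v * y⁻¹⁆⁻¹ * (s⁻¹ * ⁅s, y * v * y⁻¹⁆) * ⁅s, y * v * y⁻¹⁆⁻¹ := by
            simp only [mul_assoc, mul_inv_cancel, mul_one]
        _ = ⁅s, y * v * y⁻¹⁆⁻¹ * (⁅s, y * v * y⁻¹⁆ * s⁻¹) * ⁅s, y * v * y⁻¹⁆⁻¹ := by rw [c2]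
        _ = s⁻¹ * ⁅s, y * v * y⁻¹⁆⁻¹ := by
            rw [inv_mul_cancel_left]
    have e2 : ⁅s, y * v * y⁻¹⁆⁻¹ * (y * v * y⁻¹) = (⁅s, y * v * y⁻¹⁆⁻¹ * s⁻¹) * (s * (y * v * y⁻¹)) := by
      group
    rw [e2, e1]
    simp only [commutatorElement_def]; group
  have e0 : ⁅y⁻¹ * s⁻¹ * y * s, v⁆ = y⁻¹ * (s⁻¹ * (y * (⁅s, v⁆ * v) * y⁻¹) * s) * y * v⁻¹ := by
    simp only [commutatorElement_def]; group
  have e3 : s⁻¹ * (y * (⁅s, v⁆ * v) * y⁻¹) * s = (s⁻¹ * (y * ⁅s, v⁆ * y⁻¹)) * (y * v * y⁻¹) * s := by group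
  rw [e0, e3, c1]
  have e4 : y * ⁅s, v⁆ * y⁻¹ * s⁻¹ * (y * v * y⁻¹) * s = (y * ⁅s, v⁆ * y⁻¹) * (s⁻¹ * (y * v * y⁻¹) * s) := by group
  rw [e4, c3]
  group

end Pair0

end Cfsg.Agent.H309.Ru
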