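import Cfsg.Agent.H309.Ru.Sign
import Cfsg.Agent.StdL2.G23Aut

/-!
# S3204: `N(Z)` induces all automorphisms of `Z` (helper309)
-/

set_option autoImplicit false

namespace Cfsg.Agent.H309.Ru

open Subgroup Pointwise
open scoped commutatorElement

variable {G : Type*} [Group G]

variable [Finite G] {T T1 T2 W Z4 Z Z2 Z1 : Subgroup G} (h : Hyp T T1 T2 W Z4 Z Z2 Z1)
  (S : Sylow 2 G) (hS : (S : Subgroup G) = T) (hidx : ∀ H : Subgroup G, H.index ≠ 2)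
include h

/-- `T` is transitive on `Z2 ∖ Z1`. -/
theorem T_trans2 {a b : G} (ha : a ∈ Z2) (ha' : a ∉ Z1) (hb : b ∈ Z2) (hb' : b ∉ Z1) :
    ∃ t ∈ T, t * a * t⁻¹ = b := by
  have h1 : b * a⁻¹ ∈ Z1 := mul_mem_index_two h.Z1_le (by rw [h.cZ1, h.cZ2]) hb (inv_mem ha) hb'
    (by rwa [inv_mem_iff])
  obtain ⟨t, ht, e⟩ := h.exists_comm_T1 ha ha' h1
  refine ⟨t, h.T1_le ht, ?_⟩
  rw [conj_eq, e]; group

/-- `T` is transitive on `Z ∖ Z2`. -/
theorem T_trans3 {a b : G} (ha : a ∈ Z) (ha' : a ∉ Z2) (hb : b ∈ Z) (hb' : b ∉ Z2) :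
    ∃ t ∈ T, t * a * t⁻¹ = b := by
  have h1 : b * a⁻¹ ∈ Z2 := mul_mem_index_two h.Z2_le (by rw [h.cZ2, h.cZ]) hb (inv_mem ha) hb'
    (by rwa [inv_mem_iff])
  obtain ⟨t, ht, e⟩ := h.exists_comm_T2 ha ha' h1
  refine ⟨t, h.T2_le ht, ?_⟩
  rw [conj_eq, e]; group

include hS hidx in
theorem trans_Z {c : G} (hc : c ∈ Z1) (hc1 : c ≠ 1) : ∀ z ∈ Z, z ≠ 1 →
    ∃ m ∈ normalizer (Z : Set G), m * c * m⁻¹ = z := by
  set O : Set G := {z | ∃ m ∈ normalizer (Z : Set G), m * c * m⁻¹ = z} with hO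
  have hOinv : ∀ m ∈ normalizer (Z : Set G), ∀ z ∈ O, m * z * m⁻¹ ∈ O := by
    rintro m hm _ ⟨n, hn, rfl⟩
    exact ⟨m * n, mul_mem hm hn, by group⟩
  have hOinv' : ∀ m ∈ normalizer (Z : Set G), ∀ z, m * z * m⁻¹ ∈ O → z ∈ O := by
    intro m hm z hz
    have := hOinv _ (inv_mem hm) _ hz
    have e : m⁻¹ * (m * z * m⁻¹) * m⁻¹⁻¹ = z := by group
    rwa [e] at this
  have hOZ : ∀ z ∈ O, z ∈ Z := by
    rintro _ ⟨m, hm, rfl⟩
    exact conj_of_mem_normalizer hm (h.Z1Z hc)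
  have hO1 : ∀ z ∈ O, z ≠ 1 := by
    rintro _ ⟨m, hm, rfl⟩ h1
    apply hc1
    have : c = m⁻¹ * (m * c * m⁻¹) * m := by group
    rw [this, h1]; group
  have hcO : c ∈ O := ⟨1, one_mem _, by group⟩
  have hZ1 : ∀ z ∈ Z1, z = 1 ∨ z = c := fun z hz => h.eq_z1 hc hc1 hz
  -- some element of O is outside Z1
  have hex : ∃ z ∈ O, z ∉ Z1 := by
    by_contra hcon
    push Not at hcon
    apply not_norm1 h S hS hidx
    intro m hm
    apply mem_normalizer_of_conj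
    intro z hz
    rcases hZ1 z hz with rfl | rfl
    · simp
    · exact hcon _ ⟨m, hm, rfl⟩
  have full2 : (∃ z ∈ O, z ∈ Z2 ∧ z ∉ Z1) → ∀ z ∈ Z2, z ∉ Z1 → z ∈ O := by
    rintro ⟨a, haO, ha, ha'⟩ b hb hb'
    obtain ⟨t, ht, rfl⟩ := T_trans2 h ha ha' hb hb'
    exact hOinv t (h.TNZ ht) a haO
  have full3 : (∃ z ∈ O, z ∉ Z2) → ∀ z ∈ Z, z ∉ Z2 → z ∈ O := by
    rintro ⟨a, haO, ha'⟩ b hb hb'
    obtain ⟨t, ht, rfl⟩ := T_trans3 h (hOZ a haO) ha' hb hb'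
    exact hOinv t (h.TNZ ht) a haO
  have h3 : ∃ z ∈ O, z ∉ Z2 := by
    by_contra hcon
    push Not at hcon
    obtain ⟨z, hzO, hz1⟩ := hex
    have h2 := full2 ⟨z, hzO, hcon z hzO, hz1⟩
    apply not_norm2 h S hS hidx
    intro m hm
    apply mem_normalizer_of_conj
    intro y hy
    by_cases hy1 : y ∈ Z1
    · rcases hZ1 y hy1 with rfl | rfl
      · simp
      · exact hcon _ (hOinv m hm _ hcO)
    · exact hcon _ (hOinv m hm _ (h2 y hy hy1))
  have h2 : ∃ z ∈ O, z ∈ Z2 ∧ z ∉ Z1 := by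
    by_contra hcon
    push Not at hcon
    apply not_norm1 h S hS hidx
    obtain ⟨a, ha, ha'⟩ := h.exists_z2
    -- elements of Z2 outside Z1 are mapped to elements of Z2 outside Z1
    have h4 : ∀ m ∈ normalizer (Z : Set G), ∀ y ∈ Z2, y ∉ Z1 → m * y * m⁻¹ ∈ Z2 ∧ m * y * m⁻¹ ∉ Z1 := by
      intro m hm y hy hy1
      have hyO : y ∉ O := fun h5 => hy1 (hcon y h5 hy)
      have hmZ : m * y * m⁻¹ ∈ Z := conj_of_mem_normalizer hm (h.Z2_le hy)
      have hmO : m * y * m⁻¹ ∉ O := fun h5 => hyO (hOinv' m hm y h5)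
      have h5 : m * y * m⁻¹ ∈ Z2 := by
        by_contra h6
        exact hmO (full3 h3 _ hmZ h6)
      refine ⟨h5, fun h6 => ?_⟩
      rcases hZ1 _ h6 with h7 | h7
      · apply hy1
        have : y = m⁻¹ * (m * y * m⁻¹) * m := by group
        rw [this, h7]; simp
      · exact hmO (by rw [h7]; exact hcO)
    intro m hm
    apply mem_normalizer_of_conj
    intro y hy
    have h5 := h4 m hm a ha ha'
    have hay : a * y ∈ Z2 := mul_mem ha (h.Z1_le hy)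
    have hay' : a * y ∉ Z1 := fun h6 => ha' ((mul_mem_cancel_right hy).1 h6)
    have h6 := h4 m hm _ hay hay'
    have e : m * y * m⁻¹ = (m * a * m⁻¹)⁻¹ * (m * (a * y) * m⁻¹) := by group
    rw [e]
    exact mul_mem_index_two h.Z1_le (by rw [h.cZ1, h.cZ2]) (inv_mem h5.1) h6.1
      (by rw [inv_mem_iff]; exact h5.2) h6.2
  intro z hz hz1
  by_cases hzZ2 : z ∈ Z2
  · by_cases hzZ1 : z ∈ Z1
    · rcases hZ1 z hzZ1 with rfl | rfl
      · exact absurd rfl hz1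
      · exact hcO
    · exact full2 h2 z hzZ2 hzZ1
  · exact full3 h3 z hz hzZ2

theorem cent_inf : T ⊓ centralizer (Z : Set G) = W := by
  apply le_antisymm
  · rintro x ⟨hx, hxc⟩
    exact h.memW x hx (fun z hz => (mem_centralizer_iff.1 hxc z hz).symm)
  · intro x hx
    exact ⟨h.WT hx, mem_centralizer_iff.2 (fun z hz => (h.cen z hz x hx).symm)⟩

include hS hidx in
/-- All automorphisms of `Z` are induced by `N(Z)`. -/
theorem full_aut : Cfsg.Agent.StdL2.G23Aut.img (normalizer (Z : Set G)) Z = ⊤ := by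
  have hOct : Cfsg.Agent.StdL2.G23Aut.Oct Z := ⟨h.cZ, h.sqZ⟩
  have := hOct.finite_aut
  set X := Cfsg.Agent.StdL2.G23Aut.img (normalizer (Z : Set G)) Z with hX
  apply hOct.eq_top
  · have h1 := Cfsg.Agent.StdL2.G23Aut.card_img_mul (K := T) (V := Z) h.TNZ
    rw [cent_inf h, h.cW, h.cT] at h1
    have h2 : Cfsg.Agent.StdL2.G23Aut.img T Z ≤ X := by
      intro φ hφ
      rw [hX]
      rw [Cfsg.Agent.StdL2.G23Aut.mem_img] at hφ ⊢
      obtain ⟨k, hk, hkN, e⟩ := hφ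
      exact ⟨k, hkN, hkN, e⟩
    have h3 : Nat.card (Cfsg.Agent.StdL2.G23Aut.img T Z) = 8 := by omega
    rw [← h3]
    exact card_dvd_of_le h2
  · obtain ⟨c, hc, hc1⟩ := h.exists_z1
    have horb : MulAction.orbit X (⟨c, h.Z1Z hc⟩ : Z) = {1}ᶜ := by
      ext z
      rw [Set.mem_compl_singleton_iff, MulAction.mem_orbit_iff]
      constructor
      · rintro ⟨φ, rfl⟩ h1
        have h2 : (φ : MulAut Z) ⟨c, h.Z1Z hc⟩ = 1 := h1
        have h3 := (φ : MulAut Z).injective (h2.trans (map_one (φ : MulAut Z)).symm)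
        exact hc1 (congrArg Subtype.val h3)
      · intro hz
        obtain ⟨m, hm, e⟩ := trans_Z h S hS hidx hc hc1 z z.2 (fun h1 => hz (Subtype.ext h1))
        refine ⟨⟨Z.normalizerMonoidHom ⟨m, hm⟩, ?_⟩, ?_⟩
        · rw [hX, Cfsg.Agent.StdL2.G23Aut.mem_img]
          exact ⟨m, hm, hm, fun v => rfl⟩
        · exact Subtype.ext e
    have h1 := MulAction.index_stabilizer X (⟨c, h.Z1Z hc⟩ : Z)
    rw [horb] at h1
    have h2 : ({1}ᶜ : Set Z).ncard = 7 := by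
      rw [Set.ncard_compl, Set.ncard_singleton, h.cZ]
    rw [h2] at h1
    rw [← h1]
    exact Subgroup.index_dvd_card _

end Cfsg.Agent.H309.Ru
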