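import Cfsg.Agent.H309.Ru.SylC
import Cfsg.Agent.H309.Ru.Orbit
import Cfsg.Agent.H309.Ru.TypesA

/-!
# S3204: the transfer argument (helper309)
-/

set_option autoImplicit false

namespace Cfsg.Agent.H309.Ru

open Subgroup Pointwise
open scoped commutatorElement

variable {G : Type*} [Group G]

theorem stab_eq {Z : Subgroup G} (g : G) :
    MulAction.stabilizer G (g : G ⧸ normalizer (Z : Set G)) =
      normalizer ((MulAut.conj g • Z : Subgroup G) : Set G) := by
  ext x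
  rw [MulAction.mem_stabilizer_iff, smul_mk_eq_iff, ← conj_smul_normalizer, mem_conj_smul]

variable [Finite G] {T T1 T2 W Z4 Z Z2 Z1 : Subgroup G} (h : Hyp T T1 T2 W Z4 Z Z2 Z1)
  (S : Sylow 2 G) (hS : (S : Subgroup G) = T)

include hS in
theorem exists_rep (ω : G ⧸ normalizer (Z : Set G)) (hTZ : T ≤ normalizer (Z : Set G)) :
    ∃ g : G, (g : G ⧸ normalizer (Z : Set G)) = ω ∧
      (T ⊓ normalizer ((MulAut.conj g • Z : Subgroup G) : Set G) : Subgroup G) ≤ MulAut.conj g • T := by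
  have : Fact (Nat.Prime 2) := ⟨Nat.prime_two⟩
  obtain ⟨g, rfl⟩ := QuotientGroup.mk_surjective ω
  have hp : IsPGroup 2 T := by rw [← hS]; exact S.2
  obtain ⟨m, hm, hle⟩ := exists_conj_le (g • S) (normalizer ((MulAut.conj g • Z : Subgroup G) : Set G))
    (by rw [Sylow.coe_subgroup_smul, ← conj_smul_normalizer]
        apply conj_smul_mono; rw [hS]; exact hTZ)
    (T ⊓ normalizer ((MulAut.conj g • Z : Subgroup G) : Set G)) (hp.to_le inf_le_left) inf_le_right
  rw [Sylow.coe_subgroup_smul, hS] at hle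
  have hZ : MulAut.conj (m⁻¹ * g) • Z = MulAut.conj g • Z := by
    have h1 := mem_normalizer_iff_conj.1 hm
    rw [conj_mul_smul]
    conv_lhs => rw [← h1]
    rw [conj_inv_smul_smul]
  refine ⟨m⁻¹ * g, ?_, ?_⟩
  · rw [QuotientGroup.eq]
    rw [← conj_smul_normalizer, mem_conj_smul] at hm
    have e : (m⁻¹ * g)⁻¹ * g = g⁻¹ * m * g := by group
    rw [e]; exact hm
  · rw [hZ, conj_mul_smul]
    have h1 := conj_smul_mono (g := m⁻¹) hle
    rwa [conj_inv_smul_smul] at h1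

theorem W1_mem {T T1 T2 W Z4 Z Z2 Z1 T' T1' T2' W' Z4' Z' Z2' Z1' W1 : Subgroup G}
    (q : Pair T T1 T2 W Z4 Z Z2 Z1 T' T1' T2' W' Z4' Z' Z2' Z1' W1) {s y : G} (hs : s ∈ W) (hs' : s ∉ W1)
    (hy : y ∈ T ⊓ normalizer (Z' : Set G)) : y⁻¹ * s⁻¹ * y * s ∈ W1 := by
  have h1 := q.p.h.nW _ (inv_mem (mem_inf.1 hy).1) _ (inv_mem hs)
  rw [inv_inv] at h1
  apply mul_mem_index_two q.p.W1W q.p.idx h1 hs _ hs'
  intro h2
  apply hs'
  rw [q.p.eqW1] at h2 ⊢
  refine mem_inf.2 ⟨hs, ?_⟩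
  have h3 := mul_mem (mul_mem (mem_inf.1 hy).2 (mem_inf.1 h2).2) (inv_mem (mem_inf.1 hy).2)
  have e : y * (y⁻¹ * s⁻¹ * y) * y⁻¹ = s⁻¹ := by group
  rw [e] at h3
  exact (inv_mem_iff).1 h3

include h in
theorem V_of_X {M : Subgroup G} (φ : M →* ℤˣ) {ω : G ⧸ M} {Ta : Subgroup G} (hTa : Ta ≤ T)
    (hc : Nat.card T = 2 * Nat.card Ta) (hX : Ta ≤ (T ⊓ MulAction.stabilizer G ω) ⊔ W)
    (hV : ∀ x ∈ (T ⊓ MulAction.stabilizer G ω) ⊔ W,
      VV φ (orb ((T ⊓ MulAction.stabilizer G ω) ⊔ W) ω) x = 1) {t : G} (ht : t ∈ Ta) :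
    VV φ (orb T ω) t = 1 := by
  by_cases hXT : (T ⊓ MulAction.stabilizer G ω) ⊔ W = T
  · rw [hXT] at hV
    exact hV t (hTa ht)
  · have h1 := card_lt_two (lt_of_le_of_ne (XX_le h) hXT)
    have h2 : Ta = (T ⊓ MulAction.stabilizer G ω) ⊔ W := eq_of_le_of_card_le hX (by omega)
    apply V_T_of_X φ h hTa hc h2.symm _ ht
    rw [h2]; exact hV

/-- From the values on `Y` to the values on `X`. -/
theorem V_X_one {M : Subgroup G} (φ : M →* ℤˣ) {ω : G ⧸ M} (h : Hyp T T1 T2 W Z4 Z Z2 Z1)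
    (hWs : ¬ W ≤ MulAction.stabilizer G ω)
    (hV : ∀ y ∈ T ⊓ MulAction.stabilizer G ω,
      VV φ (orb ((T ⊓ MulAction.stabilizer G ω) ⊔ W) ω) y = 1) :
    ∀ x ∈ (T ⊓ MulAction.stabilizer G ω) ⊔ W,
      VV φ (orb ((T ⊓ MulAction.stabilizer G ω) ⊔ W) ω) x = 1 := by
  intro x hx
  obtain ⟨w, hw, hwx⟩ := XX_spec h x hx
  have hwX : w ∈ (T ⊓ MulAction.stabilizer G ω) ⊔ W := (le_sup_right : W ≤ _) hw
  have hy : w⁻¹ * x ∈ (T ⊓ MulAction.stabilizer G ω) ⊔ W := mul_mem (inv_mem hwX) hx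
  have e : x = w * (w⁻¹ * x) := by group
  rw [e, V_mul φ hy, V_PW φ h le_sup_right hWs (XX_spec h) hw, one_mul]
  exact hV _ (mem_inf.2 ⟨XX_le h hy, hwx⟩)

theorem card_half (h : Hyp T T1 T2 W Z4 Z Z2 Z1) {X : Subgroup G} (hne : ¬ W ≤ X)
    (hc : ¬ 4 * Nat.card (W ⊓ X : Subgroup G) ≤ Nat.card W) :
    Nat.card W = 2 * Nat.card (W ⊓ X : Subgroup G) := by
  obtain ⟨k, hk, hck⟩ := dvd_of_le (inf_le_left : (W ⊓ X : Subgroup G) ≤ W) (cW' h)
  have h1 := card_lt_two (lt_of_le_of_ne (inf_le_left : (W ⊓ X : Subgroup G) ≤ W)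
    (fun heq => hne (inf_eq_left.1 heq)))
  rw [h.cW] at h1 hc ⊢
  rw [hck] at h1 hc ⊢
  interval_cases k <;> omega

include h hS in
theorem mkPair {g : G} (hne : MulAut.conj g • Z ≠ Z)
    (hY : (T ⊓ normalizer ((MulAut.conj g • Z : Subgroup G) : Set G) : Subgroup G) ≤ MulAut.conj g • T)
    (hc : Nat.card W = 2 * Nat.card (W ⊓ normalizer ((MulAut.conj g • Z : Subgroup G) : Set G) :
      Subgroup G)) :
    Pair T T1 T2 W Z4 Z Z2 Z1 (MulAut.conj g • T) (MulAut.conj g • T1) (MulAut.conj g • T2)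
      (MulAut.conj g • W) (MulAut.conj g • Z4) (MulAut.conj g • Z) (MulAut.conj g • Z2)
      (MulAut.conj g • Z1) (W ⊓ normalizer ((MulAut.conj g • Z : Subgroup G) : Set G)) where
  p :=
    { h := h
      h' := h.conj g
      ne := hne.symm
      eqW1 := rfl
      idx := hc
      le' := (inf_le_inf_right _ h.WT).trans hY }
  YT := hY
  nW' := fun hle => hne (h.conjZ_of_le S hS hle)

theorem rep_ne {Z : Subgroup G} {g : G} (hω : (g : G ⧸ normalizer (Z : Set G)) ≠ ((1 : G) : G ⧸ _)) :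
    MulAut.conj g • Z ≠ Z := by
  intro heq
  apply hω
  symm
  rw [QuotientGroup.eq, inv_one, one_mul]
  exact mem_normalizer_iff_conj.2 heq

include h hS in
theorem orbB (φ : normalizer (Z : Set G) →* ℤˣ)
    (hφ : ∀ m : normalizer (Z : Set G), (∀ z ∈ Z2, (m : G) * z = z * m) → φ m = 1)
    (ω : G ⧸ normalizer (Z : Set G)) (hω : ω ≠ ((1 : G) : G ⧸ normalizer (Z : Set G))) {t : G} (ht : t ∈ T1)
    (ht2 : t ∉ T2) : VV φ (orb T ω) t = 1 := by
  obtain ⟨g, rfl, hY⟩ := exists_rep S hS ω h.TNZ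
  have hne := rep_ne hω
  have hst := stab_eq (Z := Z) g
  have hWs : ¬ W ≤ MulAction.stabilizer G (g : G ⧸ normalizer (Z : Set G)) := by
    rw [hst]; exact fun hle => hne (h.conjZ_of_le' S hS hle)
  by_cases hX : T1 ≤ (T ⊓ MulAction.stabilizer G (g : G ⧸ normalizer (Z : Set G))) ⊔ W
  · apply V_of_X h φ h.T1_le h.idx1 hX _ ht
    by_cases hc4 : 4 * Nat.card (W ⊓ MulAction.stabilizer G (g : G ⧸ normalizer (Z : Set G)) : Subgroup G) ≤
        Nat.card W
    · intro x hx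
      exact V_P4 φ h (XX_le h) le_sup_right hWs (XX_spec h) hc4 hx
    · have hc := card_half h hWs hc4
      apply V_X_one φ h hWs
      intro y hy
      have hc' := hc
      rw [hst] at hc' hX
      have q := mkPair h S hS hne hY hc'
      obtain ⟨s, hs, hs'⟩ := Pair.exists_s q.p
      have hy' := hy
      rw [hst] at hy'
      have hx := W1_mem q hs hs' hy'
      rw [V_P2 φ h le_sup_right (XX_spec h) hc hs (by
        rw [hst]; exact fun h1 => hs' (mem_inf.2 ⟨hs, h1⟩))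
        ((le_sup_left : T ⊓ MulAction.stabilizer G _ ≤ _) hy) (mem_inf.1 hy).2]
      have hxM : g⁻¹ * (y⁻¹ * s⁻¹ * y * s) * g ∈ normalizer (Z : Set G) := by
        rw [← mem_conj_smul, conj_smul_normalizer]; exact hx.2
      rw [kap_fix φ g _ hxM]
      apply hφ
      intro z hz
      have h1 := q.valueB hX hs hy' hx _ (conj_mem_conj_smul hz)
      show g⁻¹ * (y⁻¹ * s⁻¹ * y * s) * g * z = z * (g⁻¹ * (y⁻¹ * s⁻¹ * y * s) * g)
      calc g⁻¹ * (y⁻¹ * s⁻¹ * y * s) * g * z = g⁻¹ * ((y⁻¹ * s⁻¹ * y * s) * (g * z * g⁻¹)) * g := by group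
        _ = g⁻¹ * ((g * z * g⁻¹) * (y⁻¹ * s⁻¹ * y * s)) * g := by rw [h1]
        _ = _ := by group
  · exact V_T φ h hWs h.T1_le h.idx1 (fun x hx => h.sqT1 hx) (fun x hx y hy => h.commT1 hx hy) ht
      (fun P hP hWP hcP htP => h.eq_T1 hP hWP hcP ht ht2 htP) hX

theorem units_eq {a b : ℤˣ} (hab : a = 1 ↔ b = 1) : a = b := by
  rcases Int.units_eq_one_or a with rfl | rfl
  · exact (hab.1 rfl).symm
  · rcases Int.units_eq_one_or b with rfl | rfl
    · exact hab.2 rfl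
    · rfl

include h hS in
theorem orbA (φ : normalizer (Z : Set G) →* ℤˣ)
    (hφ : ∀ m : normalizer (Z : Set G), (∀ z ∈ Z, ⁅(m : G), z⁆ ∈ Z1) → φ m = 1)
    (hφT : ∀ (t : G) (ht : t ∈ T), φ ⟨t, h.TNZ ht⟩ = 1 → t ∈ T1)
    (hM1 : normalizer (Z : Set G) ≤ normalizer (Z1 : Set G))
    (ω : G ⧸ normalizer (Z : Set G)) (hω : ω ≠ ((1 : G) : G ⧸ normalizer (Z : Set G))) {t : G} (ht : t ∈ T2)
    (ht1 : t ∉ T1) : VV φ (orb T ω) t = 1 := by
  have hφT' : ∀ (t : G) (ht : t ∈ T), φ ⟨t, h.TNZ ht⟩ = 1 ↔ t ∈ T1 := by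
    intro t ht
    refine ⟨hφT t ht, fun ht1 => ?_⟩
    apply hφ
    intro z hz
    exact h.T1c ht1 hz
  obtain ⟨g, rfl, hY⟩ := exists_rep S hS ω h.TNZ
  have hne := rep_ne hω
  have hst := stab_eq (Z := Z) g
  have hWs : ¬ W ≤ MulAction.stabilizer G (g : G ⧸ normalizer (Z : Set G)) := by
    rw [hst]; exact fun hle => hne (h.conjZ_of_le' S hS hle)
  by_cases hX : T2 ≤ (T ⊓ MulAction.stabilizer G (g : G ⧸ normalizer (Z : Set G))) ⊔ W
  · by_cases hc4 : 4 * Nat.card (W ⊓ MulAction.stabilizer G (g : G ⧸ normalizer (Z : Set G)) : Subgroup G) ≤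
        Nat.card W
    · apply V_of_X h φ h.T2_le h.idx2 hX _ ht
      intro x hx
      exact V_P4 φ h (XX_le h) le_sup_right hWs (XX_spec h) hc4 hx
    · have hc := card_half h hWs hc4
      have hc' := hc
      have hX' := hX
      rw [hst] at hc' hX'
      have q := mkPair h S hS hne hY hc'
      obtain ⟨s, hs, hs'⟩ := Pair.exists_s q.p
      -- general formula for the value on Y
      have hval : ∀ y ∈ T ⊓ MulAction.stabilizer G (g : G ⧸ normalizer (Z : Set G)),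
          ∃ hxM : g⁻¹ * (y⁻¹ * s⁻¹ * y * s) * g ∈ normalizer (Z : Set G),
          VV φ (orb ((T ⊓ MulAction.stabilizer G (g : G ⧸ normalizer (Z : Set G))) ⊔ W)
            (g : G ⧸ normalizer (Z : Set G))) y = φ ⟨_, hxM⟩ := by
        intro y hy
        have hy' := hy
        rw [hst] at hy'
        have hx := W1_mem q hs hs' hy'
        have hxM : g⁻¹ * (y⁻¹ * s⁻¹ * y * s) * g ∈ normalizer (Z : Set G) := by
          rw [← mem_conj_smul, conj_smul_normalizer]; exact hx.2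
        refine ⟨hxM, ?_⟩
        rw [V_P2 φ h le_sup_right (XX_spec h) hc hs (by
          rw [hst]; exact fun h1 => hs' (mem_inf.2 ⟨hs, h1⟩))
          ((le_sup_left : T ⊓ MulAction.stabilizer G _ ≤ _) hy) (mem_inf.1 hy).2]
        exact kap_fix φ g _ hxM
      rcases q.p.basic.2.2.2.2 with hT | hT
      · -- W1 W' = T1'
        apply V_of_X h φ h.T2_le h.idx2 hX _ ht
        apply V_X_one φ h hWs
        intro y hy
        have hy' := hy
        rw [hst] at hy'
        have hx := W1_mem q hs hs' hy'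
        obtain ⟨hxM, hv⟩ := hval y hy
        rw [hv]
        apply hφ
        intro z hz
        have h1 : y⁻¹ * s⁻¹ * y * s ∈ MulAut.conj g • T1 := by
          rw [← hT]; exact mem_sup_left hx
        have h2 := q.p.h'.T1c h1 (conj_mem_conj_smul hz)
        rw [mem_conj_smul] at h2
        have e : g⁻¹ * ⁅y⁻¹ * s⁻¹ * y * s, g * z * g⁻¹⁆ * g = ⁅g⁻¹ * (y⁻¹ * s⁻¹ * y * s) * g, z⁆ := by
          simp only [commutatorElement_def]; group
        rw [e] at h2
        exact h2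
      · -- W1 W' = T2'
        have hZ2 := q.Z2_eq hX' hT
        have hZ1 : MulAut.conj g • Z1 = Z1 :=
          mem_normalizer_iff_conj.1 (h.NZ2_le S hS hM1 (mem_normalizer_iff_conj.2 hZ2))
        rcases q.X_cases h.cT2 hX' with ⟨h5, -⟩ | ⟨h5, -⟩
        · -- X = T2
          have hX2 : (T ⊓ MulAction.stabilizer G (g : G ⧸ normalizer (Z : Set G))) ⊔ W = T2 := by
            rw [hst]; exact h5
          have hT2N : T2 ≤ normalizer (Z : Set G) := h.T2_le.trans h.TNZ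
          have hVφ : ∀ (x : G) (hx : x ∈ T2),
              VV φ (orb T2 (g : G ⧸ normalizer (Z : Set G))) x = φ ⟨x, hT2N hx⟩ := by
            intro x hx
            obtain ⟨w, hw, hwx⟩ := XX_spec h x (by rw [hX2]; exact hx)
            have hwT2 := h.W_le2 hw
            have hyT2 : w⁻¹ * x ∈ T2 := mul_mem (inv_mem hwT2) hx
            have hyY : w⁻¹ * x ∈ T ⊓ MulAction.stabilizer G (g : G ⧸ normalizer (Z : Set G)) :=
              mem_inf.2 ⟨h.T2_le hyT2, hwx⟩
            have hyY' := hyY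
            rw [hst] at hyY'
            have e : x = w * (w⁻¹ * x) := by group
            have e' : (⟨x, hT2N hx⟩ : normalizer (Z : Set G)) = ⟨w, hT2N hwT2⟩ * ⟨w⁻¹ * x, hT2N hyT2⟩ :=
              Subtype.ext e
            rw [e', map_mul]
            conv_lhs => rw [e]
            have hw1 : VV φ (orb T2 (g : G ⧸ normalizer (Z : Set G))) w = 1 :=
              V_PW φ h h.W_le2 hWs (by rw [← hX2]; exact XX_spec h) hw
            have hw2 : φ ⟨w, hT2N hwT2⟩ = 1 := by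
              apply hφ
              intro z hz
              show ⁅w, z⁆ ∈ Z1
              rw [h.cenc hz hw]; exact one_mem _
            rw [V_mul φ hyT2, hw1, hw2, one_mul, one_mul]
            obtain ⟨hxM, hv⟩ := hval _ hyY
            rw [hX2] at hv
            rw [hv]
            have hx0 := W1_mem q hs hs' hyY'
            have hxT : g⁻¹ * ((w⁻¹ * x)⁻¹ * s⁻¹ * (w⁻¹ * x) * s) * g ∈ T := by
              rw [← mem_conj_smul]; exact q.p.le' hx0
            apply units_eq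
            rw [hφT' _ hxT, hφT' _ (h.T2_le hyT2), ← mem_conj_smul]
            exact q.valueA hZ2 hZ1 hs hs' hyY' hx0
          have hlt : ∃ r ∈ T, r ∉ T2 := by
            obtain ⟨r, hr, hr2⟩ := h.exists_T1
            exact ⟨r, h.T1_le hr, hr2⟩
          obtain ⟨r, hr, hr2⟩ := hlt
          have h4 : T ⊓ MulAction.stabilizer G (g : G ⧸ normalizer (Z : Set G)) ≤ T2 := by
            rw [← hX2]; exact le_sup_left
          rw [step_mem φ h.T2_le h.idx2 h4 hr hr2 ht, hVφ _ (mul_mem ht (conj_index_two h.T2_le h.idx2 hr ht))]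
          have e : (⟨t * (r⁻¹ * t * r), hT2N (mul_mem ht (conj_index_two h.T2_le h.idx2 hr ht))⟩ :
              normalizer (Z : Set G)) = ⟨t, h.TNZ (h.T2_le ht)⟩ *
                (⟨r, h.TNZ hr⟩⁻¹ * ⟨t, h.TNZ (h.T2_le ht)⟩ * ⟨r, h.TNZ hr⟩) := Subtype.ext rfl
          rw [e, map_mul, map_mul, map_mul, map_inv, mul_comm (φ ⟨r, h.TNZ hr⟩)⁻¹, mul_assoc,
            inv_mul_cancel, mul_one, sq_unit]
        · exact (q.caseA_not_T h5 hT hZ2).elim
  · exact V_T φ h hWs h.T2_le h.idx2 (fun x hx => h.sqT2 hx) (fun x hx y hy => h.commT2 hx hy) ht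
      (fun P hP hWP hcP htP => h.eq_T2 hP hWP hcP ht ht1 htP) hX

/-- If all nontrivial orbits contribute 1, the transfer is nontrivial. -/
theorem no_transfer {M : Subgroup G} (φ : M →* ℤˣ) (T : Subgroup G) {t : G} (hTM : T ≤ M)
    (ht : t ∈ T) (hφt : φ ⟨t, hTM ht⟩ ≠ 1)
    (horb : ∀ ω : G ⧸ M, ω ≠ ((1 : G) : G ⧸ M) → VV φ (orb T ω) t = 1)
    (h2 : ∀ H : Subgroup G, H.index ≠ 2) : False := by
  have h1 : VV φ Set.univ t = φ ⟨t, hTM ht⟩ := by
    have e1 : (Set.univ : Set (G ⧸ M)) = {((1 : G) : G ⧸ M)} ∪ {((1 : G) : G ⧸ M)}ᶜ := by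
      rw [Set.union_compl_self]
    have e2 : VV φ Set.univ t = VV φ {((1 : G) : G ⧸ M)} t * VV φ ({((1 : G) : G ⧸ M)}ᶜ) t := by
      unfold VV
      conv_lhs => rw [e1]
      rw [finprod_mem_union disjoint_compl_right (Set.toFinite _) (Set.toFinite _)]
    rw [e2]
    have e3 : VV φ ({((1 : G) : G ⧸ M)}ᶜ) t = 1 := by
      apply VV_eq_one_of_orb φ T t _ _ rfl
      · intro p hp x hx hcon
        apply hx
        rw [Set.mem_singleton_iff] at hcon ⊢
        have h3 : p • ((1 : G) : G ⧸ M) = ((1 : G) : G ⧸ M) := by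
          rw [smul_mk_eq_iff]; simpa using hTM hp
        rw [← h3] at hcon
        exact MulAction.injective p hcon
      · intro ω hω
        exact horb ω hω
    rw [e3, mul_one]
    unfold VV
    rw [finprod_mem_singleton, kap_fix φ 1 t (by simpa using hTM ht)]
    congr 1
    exact Subtype.ext (by simp)
  -- the kernel has index 2
  set θ : G →* ℤˣ := trans φ with hθ
  have h3 : θ t ≠ 1 := by
    have : θ t = VV φ Set.univ t := rfl
    rw [this, h1]; exact hφt
  apply h2 θ.ker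
  rw [index_ker]
  have h4 : Nat.card θ.range ≤ 2 := by
    have h5 : Nat.card θ.range ≤ Nat.card ℤˣ := Nat.card_le_card_of_injective _ Subtype.val_injective
    have h6 : Nat.card ℤˣ = 2 := by
      rw [Nat.card_eq_fintype_card]; rfl
    omega
  have h5 : Nat.card θ.range ≠ 1 := by
    intro h6
    have h7 : Subsingleton θ.range := (Nat.card_eq_one_iff_unique.1 h6).1
    apply h3
    have h8 : (⟨θ t, ⟨t, rfl⟩⟩ : θ.range) = 1 := Subsingleton.elim _ _
    exact congrArg Subtype.val h8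
  have h6 : 0 < Nat.card θ.range := Nat.card_pos
  omega

end Cfsg.Agent.H309.Ru
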