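import Cfsg.Agent.H309.Ru.LemV

/-!
# S3204: the type analysis (helper309)
-/

set_option autoImplicit false

namespace Cfsg.Agent.H309.Ru

open Subgroup Pointwise
open scoped commutatorElement

variable {G : Type*} [Group G]

/-- The pair coming from a `T`-orbit. -/
structure Pair (T T1 T2 W Z4 Z Z2 Z1 T' T1' T2' W' Z4' Z' Z2' Z1' W1 : Subgroup G) : Prop where
  p : Pair0 T T1 T2 W Z4 Z Z2 Z1 T' T1' T2' W' Z4' Z' Z2' Z1' W1
  YT : (T ⊓ normalizer (Z' : Set G) : Subgroup G) ≤ T'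
  nW' : ¬ W' ≤ normalizer (Z : Set G)

namespace Pair

variable [Finite G] {T T1 T2 W Z4 Z Z2 Z1 T' T1' T2' W' Z4' Z' Z2' Z1' W1 : Subgroup G}
  (q : Pair T T1 T2 W Z4 Z Z2 Z1 T' T1' T2' W' Z4' Z' Z2' Z1' W1)
include q

theorem YW : (T ⊓ normalizer (Z' : Set G) ⊓ W : Subgroup G) = W1 := by
  rw [q.p.eqW1]
  apply le_antisymm
  · exact le_inf inf_le_right (inf_le_left.trans inf_le_right)
  · exact le_inf (le_inf (inf_le_left.trans q.p.h.WT) inf_le_right) inf_le_left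

theorem YW' : (T ⊓ normalizer (Z' : Set G) ⊓ W' : Subgroup G) = T ⊓ W' := by
  apply le_antisymm
  · exact le_inf (inf_le_left.trans inf_le_left) inf_le_right
  · exact le_inf (inf_le_inf_left _ q.p.h'.WNZ) inf_le_right

theorem W1Y : W1 ≤ T ⊓ normalizer (Z' : Set G) := by
  rw [← q.YW]; exact inf_le_left

theorem cX : Nat.card ((T ⊓ normalizer (Z' : Set G)) ⊔ W : Subgroup G) =
    2 * Nat.card (T ⊓ normalizer (Z' : Set G) : Subgroup G) := by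
  have h1 := card_sup_mul (A := T ⊓ normalizer (Z' : Set G)) (B := W) (inf_le_left.trans q.p.h.TNW)
  rw [q.YW, q.p.cW1, q.p.h.cW] at h1
  omega

theorem cX' : Nat.card ((T ⊓ normalizer (Z' : Set G)) ⊔ W' : Subgroup G) * Nat.card (T ⊓ W' : Subgroup G) =
    Nat.card (T ⊓ normalizer (Z' : Set G) : Subgroup G) * 2048 := by
  have h1 := card_sup_mul (A := T ⊓ normalizer (Z' : Set G)) (B := W') (q.YT.trans q.p.h'.TNW)
  rw [q.YW', q.p.h'.cW] at h1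
  exact h1

theorem cD_le : Nat.card (T ⊓ W' : Subgroup G) ≤ 1024 := by
  have h1 : (T ⊓ W' : Subgroup G) < W' := by
    refine lt_of_le_of_ne inf_le_right ?_
    intro heq
    exact q.nW' ((inf_eq_right.1 heq).trans q.p.h.TNZ)
  have h2 := card_lt_two h1
  rw [q.p.h'.cW] at h2
  omega

theorem sup_le_T' : ((T ⊓ normalizer (Z' : Set G)) ⊔ W' : Subgroup G) ≤ T' := sup_le q.YT q.p.h'.WT

theorem W1_sup_le : (W1 ⊔ W' : Subgroup G) ≤ (T ⊓ normalizer (Z' : Set G)) ⊔ W' := sup_le_sup_right q.W1Y _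

/-- Numbers: either `Y W' = T'`, or `|Y W'| = 2^13`. -/
theorem cases_X' : Nat.card ((T ⊓ normalizer (Z' : Set G)) ⊔ W' : Subgroup G) = 8192 ∨
    (T ⊓ normalizer (Z' : Set G)) ⊔ W' = T' := by
  by_cases h : (T ⊓ normalizer (Z' : Set G)) ⊔ W' = T'
  · exact Or.inr h
  · left
    have h1 := card_lt_two (lt_of_le_of_ne q.sup_le_T' h)
    have h2 := Nat.le_of_dvd Nat.card_pos (card_dvd_of_le q.W1_sup_le)
    rw [q.p.basic.2.2.2.1] at h2
    rw [q.p.h'.cT] at h1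
    omega

theorem X_cases {Ta : Subgroup G} (hTa : Nat.card Ta = 8192)
    (hX : Ta ≤ (T ⊓ normalizer (Z' : Set G)) ⊔ W) :
    ((T ⊓ normalizer (Z' : Set G)) ⊔ W = Ta ∧ Nat.card (T ⊓ normalizer (Z' : Set G) : Subgroup G) = 4096) ∨
    ((T ⊓ normalizer (Z' : Set G)) ⊔ W = T ∧ Nat.card (T ⊓ normalizer (Z' : Set G) : Subgroup G) = 8192) := by
  have hXT : ((T ⊓ normalizer (Z' : Set G)) ⊔ W : Subgroup G) ≤ T := sup_le inf_le_left q.p.h.WT
  have h1 := q.cX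
  by_cases h2 : (T ⊓ normalizer (Z' : Set G)) ⊔ W = T
  · right
    refine ⟨h2, ?_⟩
    rw [h2, q.p.h.cT] at h1
    omega
  · left
    have h3 := card_lt_two (lt_of_le_of_ne hXT h2)
    rw [q.p.h.cT] at h3
    have h4 := (eq_of_le_of_card_le hX (by rw [hTa]; omega)).symm
    refine ⟨h4, ?_⟩
    rw [h4, hTa] at h1
    omega

/-- In case b the centers coincide. -/
theorem Z1_eq (hX : T1 ≤ (T ⊓ normalizer (Z' : Set G)) ⊔ W) (hT : W1 ⊔ W' = T1') : Z1' = Z1 := by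
  have hinf := q.p.inf1 hT
  apply eq_of_le_of_card_le
  · intro z hz
    have hz2 : z ∈ Z ⊓ Z' := by rw [hinf]; exact hz
    apply q.p.h.cent_T1 hz2.1
    intro t ht
    obtain ⟨y, hy, w, hw, rfl⟩ := (mem_sup_norm (inf_le_left.trans q.p.h.TNW)).1 (hX ht)
    rw [mul_assoc, q.p.h.cen z hz2.1 w hw, ← mul_assoc, q.p.h'.c1 y (q.YT hy) z hz, mul_assoc]
  · rw [q.p.h.cZ1, q.p.h'.cZ1]

omit [Finite G] q in
theorem comm_mul_W (h : Hyp T T1 T2 W Z4 Z Z2 Z1) {s a b : G} (ha : a ∈ W) (hb : ⁅s, b⁆ ∈ Z) :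
    ⁅s, a * b⁆ = ⁅s, a⁆ * ⁅s, b⁆ := by
  have e : ⁅s, a * b⁆ = ⁅s, a⁆ * (a * ⁅s, b⁆ * a⁻¹) := by simp only [commutatorElement_def]; group
  rw [e, conj_of_mul_comm (h.cen _ hb a ha)]

omit [Finite G] q in
theorem comm_W_of_s [Finite G] {W W1 N : Subgroup G} (hle : W1 ≤ W) (hc : Nat.card W = 2 * Nat.card W1)
    (hn : ∀ k ∈ W, ∀ n ∈ N, k * n * k⁻¹ ∈ N) {s x : G} (hs : s ∈ W) (hs' : s ∉ W1)
    (h1 : ∀ w ∈ W1, ⁅w, x⁆ ∈ N) (h2 : ⁅s, x⁆ ∈ N) : ∀ w ∈ W, ⁅w, x⁆ ∈ N := by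
  have h3 : W ≤ centMod W N hn x := le_of_index_two hle hc hs hs'
    (fun w hw => ⟨hle hw, h1 w hw⟩) ⟨hs, h2⟩
  exact fun w hw => (h3 hw).2

omit q in
/-- The pair with the roles exchanged. -/
theorem swap (q : Pair T T1 T2 W Z4 Z Z2 Z1 T' T1' T2' W' Z4' Z' Z2' Z1' W1)
    (hcD : Nat.card (T ⊓ W' : Subgroup G) = 1024) :
    Pair0 T' T1' T2' W' Z4' Z' Z2' Z1' T T1 T2 W Z4 Z Z2 Z1 (T ⊓ W') where
  h := q.p.h'
  h' := q.p.h
  ne := q.p.ne.symm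
  eqW1 := by
    apply eq_of_le_of_card_le
    · exact le_inf inf_le_right (inf_le_left.trans q.p.h.TNZ)
    · have h1 : (W' ⊓ normalizer (Z : Set G) : Subgroup G) < W' := by
        refine lt_of_le_of_ne inf_le_left ?_
        intro heq
        exact q.nW' (inf_eq_left.1 heq)
      have h2 := card_lt_two h1
      rw [q.p.h'.cW] at h2
      rw [hcD]; omega
  idx := by rw [hcD, q.p.h'.cW]
  le' := inf_le_left

omit q in
theorem exists_s (p : Pair0 T T1 T2 W Z4 Z Z2 Z1 T' T1' T2' W' Z4' Z' Z2' Z1' W1) : ∃ s ∈ W, s ∉ W1 := by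
  by_contra hcon
  push Not at hcon
  have h1 := Nat.le_of_dvd Nat.card_pos (card_dvd_of_le (show W ≤ W1 from hcon))
  rw [p.cW1, p.h.cW] at h1
  omega

/-- Case b. -/
theorem caseB (hX : T1 ≤ (T ⊓ normalizer (Z' : Set G)) ⊔ W) (hT : W1 ⊔ W' = T1') :
    ∀ s ∈ W, ∀ z ∈ Z2', ⁅s, z⁆ ∈ Z1 := by
  have hZ1 := q.Z1_eq hX hT
  have hinf : Z ⊓ Z' = Z1 := (q.p.inf1 hT).trans hZ1
  have hW1T1 : W1 ≤ T1' := by rw [← hT]; exact le_sup_left
  have hW1 : ∀ w ∈ W1, ∀ x ∈ Z', ⁅w, x⁆ ∈ Z1 := fun w hw x hx => by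
    rw [← hZ1]; exact q.p.h'.T1c (hW1T1 hw) hx
  have hn : ∀ k ∈ W, ∀ n ∈ Z1, k * n * k⁻¹ ∈ Z1 := fun k hk n hn => q.p.h.n1 (q.p.h.WT hk) hn
  obtain ⟨s, hs, hs'⟩ := exists_s q.p
  have hall : ∀ x ∈ Z', ⁅s, x⁆ ∈ Z1 → ∀ w ∈ W, ⁅w, x⁆ ∈ Z1 := fun x hx h1 =>
    comm_W_of_s q.p.W1W q.p.idx hn hs hs' (fun w hw => hW1 w hw x hx) h1
  have hDW : ((T ⊓ W') ⊔ W : Subgroup G) ≤ (T ⊓ normalizer (Z' : Set G)) ⊔ W :=
    sup_le_sup_right (inf_le_inf_left _ q.p.h'.WNZ) _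
  have hDU : (T ⊓ W' ⊓ W : Subgroup G) = W ⊓ W' := by
    apply le_antisymm
    · exact le_inf inf_le_right (inf_le_left.trans inf_le_right)
    · exact le_inf (le_inf (inf_le_left.trans q.p.h.WT) inf_le_right) inf_le_left
  have hcDW := card_sup_mul (A := T ⊓ W') (B := W) (inf_le_left.trans q.p.h.TNW)
  rw [hDU, q.p.cU, q.p.h.cW] at hcDW
  have h1 := q.cX
  have h2 := q.cX'
  have h3 := q.cD_le
  rcases q.cases_X' with h4 | h4
  · -- impossible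
    exfalso
    rw [h4] at h2
    have hXT : T1 = (T ⊓ normalizer (Z' : Set G)) ⊔ W ∧ Nat.card (T ⊓ W' : Subgroup G) = 1024 := by
      have h5 := Nat.le_of_dvd Nat.card_pos (card_dvd_of_le hX)
      rw [q.p.h.cT1] at h5
      refine ⟨eq_of_le_of_card_le hX ?_, ?_⟩
      · rw [q.p.h.cT1]; omega
      · omega
    have hD : (T ⊓ W') ⊔ W = T1 := by
      apply eq_of_le_of_card_le
      · rw [hXT.1]; exact hDW
      · rw [hXT.2] at hcDW
        rw [q.p.h.cT1]; omega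
    obtain ⟨x, hx, hx1, hsx⟩ := q.p.lemV hD hinf hs
    have hnA : ∀ k ∈ Z' ⊔ Z, ∀ n ∈ Z1, k * n * k⁻¹ ∈ Z1 := fun k hk n hn' =>
      hn k (q.p.A_le hk) n hn'
    set F : Subgroup G := modC (Z' ⊔ Z) (T1 : Set G) Z1 hnA with hF
    have hAinv : ∀ t ∈ T, ∀ k ∈ Z' ⊔ Z, t * k * t⁻¹ ∈ Z' ⊔ Z := by
      intro t ht k hk
      rw [q.p.mem_A hD hinf] at hk ⊢
      refine ⟨q.p.h.nW t ht k hk.1, fun r hr => ?_⟩
      have e : ⁅r, t * k * t⁻¹⁆ = t * ⁅t⁻¹ * r * t, k⁆ * t⁻¹ := by simp only [commutatorElement_def]; group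
      rw [e]
      exact q.p.h.n3 ht (hk.2 _ (conj_index_two q.p.h.T1_le q.p.h.idx1 ht hr))
    have hsqA : ∀ a ∈ Z' ⊔ Z, a * a = 1 := by
      intro a ha
      obtain ⟨b, hb, c, hc, rfl⟩ := (mem_sup_norm q.p.Z'NZ).1 ha
      have e1 := q.p.h.cen c hc b (q.p.Z'W hb)
      calc b * c * (b * c) = b * (c * b) * c := by group
        _ = b * (b * c) * c := by rw [e1]
        _ = (b * b) * (c * c) := by group
        _ = 1 := by rw [q.p.h'.sqZ b hb, q.p.h.sqZ c hc, mul_one]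
    have hFc : Nat.card F ≤ 8 := by
      apply q.p.h.e1 F
      · exact fun y hy => q.p.h.WT (q.p.A_le hy.1)
      · intro y hy
        refine ⟨(le_sup_right : Z ≤ Z' ⊔ Z) (q.p.h.Z1Z hy), fun t ht => ?_⟩
        rw [q.p.h.Z1c (q.p.h.T1_le ht) hy]; exact one_mem _
      · intro a ha; exact hsqA a ha.1
      · intro t ht a ha
        exact modC_conj (fun k hk => hAinv t ht k hk)
          (fun r hr => conj_index_two q.p.h.T1_le q.p.h.idx1 ht hr) (fun n hn' => q.p.h.n1 ht hn') ha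
      · intro t ht a ha
        exact ha.2 t ht
    have hZF : Z < F := by
      refine lt_of_le_of_ne ?_ ?_
      · intro y hy
        exact ⟨(le_sup_right : Z ≤ Z' ⊔ Z) hy, fun t ht => q.p.h.T1c ht hy⟩
      · intro heq
        have hxF : x ∈ F := by
          refine ⟨(le_sup_left : Z' ≤ Z' ⊔ Z) hx, fun t ht => ?_⟩
          rw [SetLike.mem_coe, ← hD] at ht
          obtain ⟨d, hd, w, hw, rfl⟩ := (mem_sup_norm (inf_le_left.trans q.p.h.TNW)).1 ht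
          have h6 := hall x hx hsx w hw
          rw [comm_mul_left', q.p.h'.cenc hx hd.2, mul_one, q.p.h.Z1c hd.1 h6, one_mul]
          exact h6
        rw [← heq] at hxF
        apply hx1
        rw [← hinf]; exact ⟨hxF, hx⟩
    have h7 := card_lt_two hZF
    rw [q.p.h.cZ] at h7
    omega
  · -- Y W' = T'
    rw [h4, q.p.h'.cT] at h2
    -- it suffices to find an element of Z' outside Z1 with ⁅s, x⁆ ∈ Z1
    have hnZ : ∀ k ∈ Z', ∀ n ∈ Z1, k * n * k⁻¹ ∈ Z1 := fun k hk n hn' => hn k (q.p.Z'W hk) n hn'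
    have suff : ∀ x ∈ Z', x ∉ Z1 → ⁅s, x⁆ ∈ Z1 → ∀ s ∈ W, ∀ z ∈ Z2', ⁅s, z⁆ ∈ Z1 := by
      intro x hx hx1 hsx
      have h5 : Z2' ≤ modC Z' (W : Set G) Z1 hnZ := by
        apply q.p.h'.norm2
        · intro y hy; exact hy.1
        · intro t ht k hk
          rw [← h4] at ht
          obtain ⟨y, hy, w, hw, rfl⟩ := (mem_sup_norm (q.YT.trans q.p.h'.TNW)).1 ht
          have e : y * w * k * (y * w)⁻¹ = y * (w * k * w⁻¹) * y⁻¹ := by group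
          rw [e, conj_of_mul_comm (q.p.h'.cen k hk.1 w hw)]
          exact modC_conj (fun k hk => conj_of_mem_normalizer hy.2 hk)
            (fun r hr => by
              have := q.p.h.nW _ (inv_mem hy.1) r hr
              rwa [inv_inv] at this) (fun n hn' => q.p.h.n1 hy.1 hn') hk
        · intro hcon
          have : x ∈ modC Z' (W : Set G) Z1 hnZ := ⟨hx, fun w hw => hall x hx hsx w hw⟩
          exact hx1 (by rw [← hZ1]; exact hcon this)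
      intro w hw z hz
      exact (h5 hz).2 w hw
    rcases q.X_cases q.p.h.cT1 hX with ⟨h5, h6⟩ | ⟨h5, h6⟩
    · -- X = T1
      obtain ⟨z3, hz3, hz3'⟩ := q.p.h'.exists_z3
      obtain ⟨t, ht, ht1⟩ := q.p.h'.exists_T2
      have htT := q.p.h'.T2_le ht
      rw [← h4] at htT
      obtain ⟨y, hy, w, hw, rfl⟩ := (mem_sup_norm (q.YT.trans q.p.h'.TNW)).1 htT
      have hy1 : y ∉ T1' := fun h7 => ht1 (mul_mem h7 (q.p.h'.W_le1 hw))
      rw [q.p.h'.mem1 (q.YT hy) hz3 hz3', hZ1] at hy1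
      have hzz := q.p.h'.c3 y (q.YT hy) z3 hz3
      have hyT1 : y ∈ T1 := by
        rw [← h5]; exact (le_sup_left : T ⊓ normalizer (Z' : Set G) ≤ _) hy
      apply suff ⁅y, z3⁆ (q.p.h'.Z2_le hzz) hy1
      -- equivariance
      have hsz : ⁅s, z3⁆ ∈ Z := q.p.h.comW _ hs _ (q.p.Z'W hz3)
      have hx' : y * z3 * y⁻¹ ∈ Z' := conj_of_mem_normalizer hy.2 hz3
      have hsx' : ⁅s, y * z3 * y⁻¹⁆ ∈ Z := q.p.h.comW _ hs _ (q.p.Z'W hx')
      have hysy : s⁻¹ * (y * s * y⁻¹) ∈ W1 := by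
        rcases mem_or_mem q.p.W1W q.p.idx hs hs' (q.p.h.nW y hy.1 s hs) with h7 | h7
        · exfalso
          apply hs'
          rw [q.p.eqW1] at h7 ⊢
          refine ⟨hs, ?_⟩
          have h8 := mul_mem (mul_mem (inv_mem (mem_inf.1 hy).2) h7.2) (mem_inf.1 hy).2
          have e : y⁻¹ * (y * s * y⁻¹) * y = s := by group
          rwa [e] at h8
        · exact h7
      set w1 := s⁻¹ * (y * s * y⁻¹) with hw1
      have e1 : y * ⁅s, z3⁆ * y⁻¹ = ⁅s * w1, y * z3 * y⁻¹⁆ := by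
        rw [hw1]; simp only [commutatorElement_def]; group
      have e2 : ⁅s * w1, y * z3 * y⁻¹⁆ = ⁅w1, y * z3 * y⁻¹⁆ * ⁅s, y * z3 * y⁻¹⁆ := by
        rw [comm_mul_left', q.p.h.Z1c (q.p.h.WT hs) (hW1 w1 hysy _ hx'), one_mul]
      have e3 : y * ⁅s, z3⁆ * y⁻¹ = ⁅y, ⁅s, z3⁆⁆ * ⁅s, z3⁆ := conj_eq _ _
      have e4 : ⁅s, y * z3 * y⁻¹⁆ = ⁅s, ⁅y, z3⁆⁆ * ⁅s, z3⁆ := by
        rw [conj_eq y z3, comm_mul_W q.p.h (q.p.Z'W (q.p.h'.Z2_le hzz)) hsz]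
      have h8 : ⁅w1, y * z3 * y⁻¹⁆ ∈ Z1 := hW1 w1 hysy _ hx'
      have h9 : ⁅y, ⁅s, z3⁆⁆ ∈ Z1 := q.p.h.T1c hyT1 hsz
      rw [e2, e3, e4, ← mul_assoc, mul_left_inj] at e1
      rw [e1] at h9
      exact (mul_mem_cancel_left h8).1 h9
    · -- X = T
      rw [h6] at h2
      have hcD : Nat.card (T ⊓ W' : Subgroup G) = 1024 := by omega
      have p' := q.swap hcD
      have hD : (T ⊓ W') ⊔ W = T1 := by
        rcases p'.basic.2.2.2.2 with h7 | h7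
        · exact h7
        · exfalso
          have h8 := p'.inf2 h7
          rw [inf_comm, hinf] at h8
          have h9 := q.p.h.cZ2
          rw [← h8, q.p.h.cZ1] at h9
          omega
      obtain ⟨x, hx, hx1, hsx⟩ := q.p.lemV hD hinf hs
      exact suff x hx hx1 hsx

/-- Case b, the value of the cocycle. -/
theorem valueB (hX : T1 ≤ (T ⊓ normalizer (Z' : Set G)) ⊔ W) {s y : G} (hs : s ∈ W)
    (hy : y ∈ T ⊓ normalizer (Z' : Set G)) (hx : y⁻¹ * s⁻¹ * y * s ∈ W1) :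
    ∀ z ∈ Z2', (y⁻¹ * s⁻¹ * y * s) * z = z * (y⁻¹ * s⁻¹ * y * s) := by
  intro z hz
  rcases q.p.basic.2.2.2.2 with hT | hT
  · have h1 := q.caseB hX hT
    have hZ1 := q.Z1_eq hX hT
    apply mul_comm_of_comm
    rw [q.p.xcomm hs hy.1 hy.2 (q.p.h'.Z2_le hz)]
    have h2 := h1 s hs z hz
    have h3 : ⁅y, z⁆ ∈ Z := q.p.h.Z1Z (by rw [← hZ1]; exact q.p.h'.c2 y (q.YT hy) z hz)
    have h4 : ⁅s, ⁅y, z⁆⁆ = 1 := q.p.h.cenc h3 hs
    have h5 : ⁅s, y * z * y⁻¹⁆ = ⁅s, z⁆ := by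
      rw [conj_eq, comm_mul_W q.p.h (q.p.h.ZW h3) (q.p.h.Z1Z h2), h4, one_mul]
    rw [h5]
    have h6 := conj_of_mul_comm (q.p.h.c1 _ (inv_mem (mem_inf.1 hy).1) _ h2)
    rw [inv_inv] at h6
    rw [h6, mul_inv_cancel]
  · have h1 : y⁻¹ * s⁻¹ * y * s ∈ T2' := by
      rw [← hT]; exact (le_sup_left : W1 ≤ W1 ⊔ W') hx
    exact mul_comm_of_comm (q.p.h'.T2c h1 hz)

end Pair

end Cfsg.Agent.H309.Ru
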